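import Mathlib.RingTheory.Length
import Mathlib.Algebra.Module.SnakeLemma
import Mathlib.LinearAlgebra.Quotient.Basic

/-!
Index `length coker − length ker` of a linear map, for maps with both lengths finite.
-/

namespace Groth.Agent.LenLib

open Function LinearMap

universe u

variable {R : Type*} [CommRing R] {M N P : Type*} [AddCommGroup M] [Module R M]
  [AddCommGroup N] [Module R N] [AddCommGroup P] [Module R P]

/-- finite-length length as an integer -/
noncomputable def lenZ (R M : Type*) [CommRing R] [AddCommGroup M] [Module R M] : ℤ :=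
  ((Module.length R M).toNat : ℤ)

theorem length_eq_range_add {f : M →ₗ[R] N} {g : N →ₗ[R] P} (h : Exact f g) :
    Module.length R N = Module.length R (range f) + Module.length R (range g) :=
  Module.length_eq_add_of_exact (range f).subtype g.rangeRestrict (Submodule.injective_subtype _)
    g.surjective_rangeRestrict (by
      rw [LinearMap.exact_iff, ker_rangeRestrict, Submodule.range_subtype, h.linearMap_ker_eq])

theorem length_ne_top_of_exact {f : M →ₗ[R] N} {g : N →ₗ[R] P} (h : Exact f g)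
    (hM : Module.length R M ≠ ⊤) (hP : Module.length R P ≠ ⊤) : Module.length R N ≠ ⊤ := by
  rw [length_eq_range_add h]
  refine WithTop.add_ne_top.2 ⟨ne_top_of_le_ne_top hM ?_, ne_top_of_le_ne_top hP ?_⟩
  · exact Module.length_le_of_surjective f.rangeRestrict f.surjective_rangeRestrict
  · exact Module.length_le_of_injective (range g).subtype (Submodule.injective_subtype _)

theorem lenZ_eq_range_add {f : M →ₗ[R] N} {g : N →ₗ[R] P} (h : Exact f g)
    (hN : Module.length R N ≠ ⊤) :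
    lenZ R N = lenZ R (range f) + lenZ R (range g) := by
  have e := length_eq_range_add h
  rw [e] at hN
  obtain ⟨h1, h2⟩ := WithTop.add_ne_top.1 hN
  unfold lenZ
  rw [e, ENat.toNat_add h1 h2]
  push_cast
  rfl

theorem lenZ_congr (e : M ≃ₗ[R] N) : lenZ R M = lenZ R N := by
  unfold lenZ; rw [e.length_eq]

theorem lenZ_of_injective {f : M →ₗ[R] N} (hf : Injective f) : lenZ R (range f) = lenZ R M :=
  (lenZ_congr (LinearEquiv.ofInjective f hf)).symm

theorem lenZ_of_surjective {f : M →ₗ[R] N} (hf : Surjective f) : lenZ R (range f) = lenZ R N :=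
  lenZ_congr (LinearEquiv.ofTop _ (range_eq_top.2 hf))

section six

variable {A₁ A₂ A₃ A₄ A₅ A₆ : Type*} [AddCommGroup A₁] [Module R A₁] [AddCommGroup A₂] [Module R A₂]
  [AddCommGroup A₃] [Module R A₃] [AddCommGroup A₄] [Module R A₄] [AddCommGroup A₅] [Module R A₅]
  [AddCommGroup A₆] [Module R A₆]
  {f₁ : A₁ →ₗ[R] A₂} {f₂ : A₂ →ₗ[R] A₃} {f₃ : A₃ →ₗ[R] A₄} {f₄ : A₄ →ₗ[R] A₅} {f₅ : A₅ →ₗ[R] A₆}

theorem six_term (h₁ : Injective f₁) (e₁ : Exact f₁ f₂) (e₂ : Exact f₂ f₃) (e₃ : Exact f₃ f₄)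
    (e₄ : Exact f₄ f₅) (h₅ : Surjective f₅)
    (l₂ : Module.length R A₂ ≠ ⊤) (l₃ : Module.length R A₃ ≠ ⊤) (l₄ : Module.length R A₄ ≠ ⊤)
    (l₅ : Module.length R A₅ ≠ ⊤) :
    lenZ R A₁ - lenZ R A₂ + lenZ R A₃ - lenZ R A₄ + lenZ R A₅ - lenZ R A₆ = 0 := by
  rw [lenZ_eq_range_add e₁ l₂, lenZ_eq_range_add e₂ l₃, lenZ_eq_range_add e₃ l₄,
    lenZ_eq_range_add e₄ l₅, lenZ_of_injective h₁, lenZ_of_surjective h₅]
  ring

end six

/-- both kernel and cokernel have finite length -/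
def HasIndex (f : M →ₗ[R] N) : Prop :=
  Module.length R (ker f) ≠ ⊤ ∧ Module.length R (N ⧸ range f) ≠ ⊤

/-- length coker − length ker -/
noncomputable def index (f : M →ₗ[R] N) : ℤ := lenZ R (N ⧸ range f) - lenZ R (ker f)

section comp

variable (f : N →ₗ[R] P) (g : M →ₗ[R] N)

/-- ker g → ker (f ∘ g) -/
def kerIncl : ker g →ₗ[R] ker (f ∘ₗ g) :=
  Submodule.inclusion (ker_le_ker_comp g f)

/-- ker (f ∘ g) → ker f -/
def kerPush : ker (f ∘ₗ g) →ₗ[R] ker f :=
  g.restrict (fun _ hx => hx)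

/-- coker g → coker (f ∘ g) -/
def cokerPush : (N ⧸ range g) →ₗ[R] (P ⧸ range (f ∘ₗ g)) :=
  (range g).mapQ (range (f ∘ₗ g)) f (by rintro _ ⟨x, rfl⟩; exact ⟨x, rfl⟩)

/-- coker (f ∘ g) → coker f -/
def cokerProj : (P ⧸ range (f ∘ₗ g)) →ₗ[R] (P ⧸ range f) :=
  Submodule.factor (range_comp_le_range g f)

theorem exact₁ : Exact (kerIncl f g) (kerPush f g) := by
  intro ⟨x, hx⟩
  constructor
  · intro h
    exact ⟨⟨x, congr_arg Subtype.val h⟩, rfl⟩
  · rintro ⟨⟨y, hy⟩, h⟩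
    apply Subtype.ext
    have : y = x := congr_arg Subtype.val h
    subst this
    exact hy

theorem exact₂ : Exact (kerPush f g) ((range g).mkQ ∘ₗ (ker f).subtype) := by
  intro ⟨y, hy⟩
  constructor
  · intro h
    obtain ⟨x, hx⟩ := (Submodule.Quotient.mk_eq_zero _).1 h
    exact ⟨⟨x, show f (g x) = 0 by rw [hx]; exact hy⟩, Subtype.ext hx⟩
  · rintro ⟨⟨x, hx⟩, h⟩
    have : g x = y := congr_arg Subtype.val h
    exact (Submodule.Quotient.mk_eq_zero _).2 ⟨x, this⟩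

theorem exact₃ : Exact ((range g).mkQ ∘ₗ (ker f).subtype) (cokerPush f g) := by
  intro q
  obtain ⟨y, rfl⟩ := Submodule.mkQ_surjective _ q
  constructor
  · intro h
    obtain ⟨x, hx⟩ := (Submodule.Quotient.mk_eq_zero _).1 h
    refine ⟨⟨y - g x, by simp [← hx]⟩, ?_⟩
    exact (Submodule.Quotient.eq _).2 ⟨-x, by simp⟩
  · rintro ⟨⟨z, hz⟩, h⟩
    obtain ⟨x, hx⟩ := (Submodule.Quotient.eq _).1 h
    refine (Submodule.Quotient.mk_eq_zero _).2 ⟨-x, ?_⟩
    have hz' : f z = 0 := hz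
    simp [hx, hz']

theorem exact₄ : Exact (cokerPush f g) (cokerProj f g) := by
  intro q
  obtain ⟨z, rfl⟩ := Submodule.mkQ_surjective _ q
  constructor
  · intro h
    obtain ⟨y, hy⟩ := (Submodule.Quotient.mk_eq_zero _).1 h
    exact ⟨Submodule.Quotient.mk y, congr_arg Submodule.Quotient.mk hy⟩
  · rintro ⟨w, h⟩
    obtain ⟨y, rfl⟩ := Submodule.mkQ_surjective _ w
    obtain ⟨x, hx⟩ := (Submodule.Quotient.eq _).1 h
    refine (Submodule.Quotient.mk_eq_zero _).2 ⟨y - g x, ?_⟩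
    simp only [LinearMap.comp_apply] at hx
    simp [map_sub, hx]

variable {f g}

theorem HasIndex.comp (hf : HasIndex f) (hg : HasIndex g) : HasIndex (f ∘ₗ g) :=
  ⟨length_ne_top_of_exact (exact₁ f g) hg.1 hf.1,
    length_ne_top_of_exact (exact₄ f g) hg.2 hf.2⟩

theorem index_comp (hf : HasIndex f) (hg : HasIndex g) :
    index (f ∘ₗ g) = index f + index g := by
  have := six_term (R := R) (Submodule.inclusion_injective (ker_le_ker_comp g f))
    (exact₁ f g) (exact₂ f g) (exact₃ f g) (exact₄ f g)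
    (Submodule.factor_surjective (range_comp_le_range g f))
    (hf.comp hg).1 hf.1 hg.2 (hf.comp hg).2
  unfold index
  omega

end comp

theorem hasIndex_of_bijective {f : M →ₗ[R] N} (hf : Bijective f) : HasIndex f := by
  have h1 : Subsingleton (ker f) := by
    rw [Submodule.subsingleton_iff_eq_bot]; exact ker_eq_bot.2 hf.1
  have h2 : Subsingleton (N ⧸ range f) := by
    rw [Submodule.Quotient.subsingleton_iff]; exact range_eq_top.2 hf.2
  exact ⟨by simp [Module.length_eq_zero], by simp [Module.length_eq_zero]⟩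

theorem index_of_bijective {f : M →ₗ[R] N} (hf : Bijective f) : index f = 0 := by
  have h1 : Subsingleton (ker f) := by
    rw [Submodule.subsingleton_iff_eq_bot]; exact ker_eq_bot.2 hf.1
  have h2 : Subsingleton (N ⧸ range f) := by
    rw [Submodule.Quotient.subsingleton_iff]; exact range_eq_top.2 hf.2
  simp [index, lenZ, Module.length_eq_zero]

theorem index_of_injective {f : M →ₗ[R] N} (hf : Injective f) :
    index f = lenZ R (N ⧸ range f) := by
  have h1 : Subsingleton (ker f) := by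
    rw [Submodule.subsingleton_iff_eq_bot]; exact ker_eq_bot.2 hf
  simp [index, lenZ, Module.length_eq_zero]

theorem hasIndex_of_finite {f : M →ₗ[R] N} (hM : Module.length R M ≠ ⊤)
    (hN : Module.length R N ≠ ⊤) : HasIndex f :=
  ⟨ne_top_of_le_ne_top hM (Module.length_le_of_injective _ (Submodule.injective_subtype _)),
    ne_top_of_le_ne_top hN (Module.length_le_of_surjective _ (Submodule.mkQ_surjective _))⟩

theorem index_of_finite {f : M →ₗ[R] N} (hM : Module.length R M ≠ ⊤)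
    (hN : Module.length R N ≠ ⊤) : index f = lenZ R N - lenZ R M := by
  have e1 : Exact (range f).subtype (range f).mkQ := exact_subtype_mkQ _
  have e2 : Exact (ker f).subtype f := exact_subtype_ker_map f
  have a := lenZ_eq_range_add e1 hN
  have b := lenZ_eq_range_add e2 hM
  rw [lenZ_of_injective (Submodule.injective_subtype _)] at a b
  rw [lenZ_of_surjective (Submodule.mkQ_surjective _)] at a
  unfold index
  omega

section congr

variable {M' N' : Type*} [AddCommGroup M'] [Module R M'] [AddCommGroup N'] [Module R N']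

theorem hasIndex_index_congr {f : M →ₗ[R] N} {f' : M' →ₗ[R] N'} (eM : M ≃ₗ[R] M')
    (eN : N ≃ₗ[R] N') (h : ∀ x, eN (f x) = f' (eM x)) (hf : HasIndex f) :
    HasIndex f' ∧ index f' = index f := by
  have hb1 := hasIndex_of_bijective (f := eN.toLinearMap) eN.bijective
  have hb2 := hasIndex_of_bijective (f := eM.symm.toLinearMap) eM.symm.bijective
  have e : f' = eN.toLinearMap ∘ₗ (f ∘ₗ eM.symm.toLinearMap) := by
    ext x; simp [h]
  constructor
  · rw [e]; exact hb1.comp (hf.comp hb2)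
  · rw [e, index_comp hb1 (hf.comp hb2), index_comp hf hb2, index_of_bijective eN.bijective,
      index_of_bijective eM.symm.bijective]
    ring

end congr

section ladder

variable {M₁ M₂ M₃ N₁ N₂ N₃ : Type*}
  [AddCommGroup M₁] [Module R M₁] [AddCommGroup M₂] [Module R M₂] [AddCommGroup M₃] [Module R M₃]
  [AddCommGroup N₁] [Module R N₁] [AddCommGroup N₂] [Module R N₂] [AddCommGroup N₃] [Module R N₃]
  {i₁ : M₁ →ₗ[R] N₁} {i₂ : M₂ →ₗ[R] N₂} {i₃ : M₃ →ₗ[R] N₃}
  {f₁ : M₁ →ₗ[R] M₂} {f₂ : M₂ →ₗ[R] M₃} {g₁ : N₁ →ₗ[R] N₂} {g₂ : N₂ →ₗ[R] N₃}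

theorem hasIndex_index_of_ladder (hf₁ : Injective f₁) (hf : Exact f₁ f₂) (hf₂ : Surjective f₂)
    (hg₁ : Injective g₁) (hg : Exact g₁ g₂) (hg₂ : Surjective g₂)
    (h₁ : g₁ ∘ₗ i₁ = i₂ ∘ₗ f₁) (h₂ : g₂ ∘ₗ i₂ = i₃ ∘ₗ f₂)
    (hi₁ : HasIndex i₁) (hi₃ : HasIndex i₃) :
    HasIndex i₂ ∧ index i₂ = index i₁ + index i₃ := by
  have c₁ : ∀ x, g₁ (i₁ x) = i₂ (f₁ x) := fun x => DFunLike.congr_fun h₁ x
  have c₂ : ∀ x, g₂ (i₂ x) = i₃ (f₂ x) := fun x => DFunLike.congr_fun h₂ x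
  let F₁ : ker i₁ →ₗ[R] ker i₂ := f₁.restrict (fun x hx => by
    rw [mem_ker] at hx ⊢; rw [← c₁, hx, map_zero])
  let F₂ : ker i₂ →ₗ[R] ker i₃ := f₂.restrict (fun x hx => by
    rw [mem_ker] at hx ⊢; rw [← c₂, hx, map_zero])
  let G₁ : (N₁ ⧸ range i₁) →ₗ[R] (N₂ ⧸ range i₂) := (range i₁).mapQ (range i₂) g₁ (by
    rintro _ ⟨x, rfl⟩; exact ⟨f₁ x, (c₁ x).symm⟩)
  let G₂ : (N₂ ⧸ range i₂) →ₗ[R] (N₃ ⧸ range i₃) := (range i₂).mapQ (range i₃) g₂ (by
    rintro _ ⟨x, rfl⟩; exact ⟨f₂ x, (c₂ x).symm⟩)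
  let D := SnakeLemma.δ' i₁ i₂ i₃ f₁ f₂ hf g₁ g₂ hg h₁ h₂ (ker i₃).subtype
    (exact_subtype_ker_map i₃) (range i₁).mkQ (exact_map_mkQ_range i₁) hf₂ hg₁
  have e₁ : Exact F₁ F₂ := by
    intro ⟨x, hx⟩
    constructor
    · intro h
      obtain ⟨y, rfl⟩ := (hf x).1 (congr_arg Subtype.val h)
      refine ⟨⟨y, hg₁ ?_⟩, rfl⟩
      rw [c₁, map_zero]; exact hx
    · rintro ⟨⟨y, hy⟩, h⟩
      apply Subtype.ext
      have : f₁ y = x := congr_arg Subtype.val h
      exact (hf x).2 ⟨y, this⟩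
  have e₂ : Exact F₂ D :=
    SnakeLemma.exact_δ'_right i₁ i₂ i₃ f₁ f₂ hf g₁ g₂ hg h₁ h₂ (ker i₂).subtype
      (exact_subtype_ker_map i₂) (ker i₃).subtype _ (range i₁).mkQ _ hf₂ hg₁ F₂ rfl
      (Submodule.injective_subtype _)
  have e₃ : Exact D G₁ :=
    SnakeLemma.exact_δ'_left i₁ i₂ i₃ f₁ f₂ hf g₁ g₂ hg h₁ h₂ (ker i₃).subtype _
      (range i₁).mkQ _ (range i₂).mkQ (exact_map_mkQ_range i₂) hf₂ hg₁ G₁ rfl
      (Submodule.mkQ_surjective _)
  have e₄ : Exact G₁ G₂ := by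
    intro q
    obtain ⟨z, rfl⟩ := Submodule.mkQ_surjective _ q
    constructor
    · intro h
      obtain ⟨m, hm⟩ := (Submodule.Quotient.mk_eq_zero _).1 h
      obtain ⟨n, rfl⟩ := hf₂ m
      obtain ⟨w, hw⟩ := (hg (z - i₂ n)).1 (by rw [map_sub, c₂, hm, sub_self])
      refine ⟨Submodule.Quotient.mk w, (Submodule.Quotient.eq _).2 ⟨-n, ?_⟩⟩
      rw [hw]; simp
    · rintro ⟨w, h⟩
      obtain ⟨y, rfl⟩ := Submodule.mkQ_surjective _ w
      obtain ⟨x, hx⟩ := (Submodule.Quotient.eq _).1 h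
      refine (Submodule.Quotient.mk_eq_zero _).2 ⟨-f₂ x, ?_⟩
      rw [map_neg, ← c₂, hx, map_sub, hg.apply_apply_eq_zero]
      simp
  have hF₁ : Injective F₁ := fun a b h => Subtype.ext (hf₁ (congr_arg Subtype.val h))
  have hG₂ : Surjective G₂ := by
    intro q
    obtain ⟨z, rfl⟩ := Submodule.mkQ_surjective _ q
    obtain ⟨y, rfl⟩ := hg₂ z
    exact ⟨Submodule.Quotient.mk y, rfl⟩
  have hi₂ : HasIndex i₂ :=
    ⟨length_ne_top_of_exact e₁ hi₁.1 hi₃.1, length_ne_top_of_exact e₄ hi₁.2 hi₃.2⟩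
  refine ⟨hi₂, ?_⟩
  have := six_term (R := R) hF₁ e₁ e₂ e₃ e₄ hG₂ hi₂.1 hi₃.1 hi₁.2 hi₂.2
  unfold index
  omega

end ladder

end Groth.Agent.LenLib
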