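import Mathlib.RingTheory.Length
import Mathlib.Algebra.Module.LocalizedModule.Exact
import Mathlib.Algebra.Module.LocalizedModule.AtPrime
import Mathlib.RingTheory.SimpleModule.Basic
import Mathlib.RingTheory.Localization.AtPrime.Basic

/-!
Lengths of localizations of modules at a prime.
-/

namespace Groth.Agent.LenLib

open Function

universe u v

variable {A : Type u} [CommRing A]

theorem length_localized_add (S : Submonoid A) {M₁ M₂ M₃ : Type v} [AddCommGroup M₁] [Module A M₁]
    [AddCommGroup M₂] [Module A M₂] [AddCommGroup M₃] [Module A M₃] (f : M₁ →ₗ[A] M₂)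
    (g : M₂ →ₗ[A] M₃) (hf : Injective f) (hg : Surjective g) (hfg : Exact f g) :
    Module.length (Localization S) (LocalizedModule S M₂) =
      Module.length (Localization S) (LocalizedModule S M₁) +
        Module.length (Localization S) (LocalizedModule S M₃) :=
  Module.length_eq_add_of_exact (LocalizedModule.map S f) (LocalizedModule.map S g)
    (LocalizedModule.map_injective S f hf) (LocalizedModule.map_surjective S g hg)
    (LocalizedModule.map_exact S f g hfg)

variable {N : Type v} [AddCommGroup N] [Module A N]

theorem length_localized_quotient_eq_zero (p q : Ideal A) [p.IsPrime] (e : N ≃ₗ[A] A ⧸ q)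
    (h : ¬ q ≤ p) :
    Module.length (Localization p.primeCompl) (LocalizedModule p.primeCompl N) = 0 := by
  obtain ⟨s, hsq, hsp⟩ := SetLike.not_le_iff_exists.1 h
  have : Subsingleton (LocalizedModule p.primeCompl N) := by
    rw [LocalizedModule.subsingleton_iff]
    intro m
    refine ⟨s, hsp, e.injective ?_⟩
    obtain ⟨a, ha⟩ := Ideal.Quotient.mk_surjective (e m)
    rw [map_smul, map_zero, ← ha, Algebra.smul_def, Ideal.Quotient.algebraMap_eq, ← map_mul,
      Ideal.Quotient.eq_zero_iff_mem]
    exact Ideal.mul_mem_right a q hsq
  exact Module.length_eq_zero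

theorem length_localized_quotient_eq_one (p : Ideal A) [p.IsPrime] (e : N ≃ₗ[A] A ⧸ p) :
    Module.length (Localization p.primeCompl) (LocalizedModule p.primeCompl N) = 1 := by
  set g : LocalizedModule p.primeCompl N := LocalizedModule.mk (e.symm 1) 1 with hg
  have hg0 : g ≠ 0 := by
    intro h
    rw [hg, ← LocalizedModule.mkLinearMap_apply, ← LinearMap.mem_ker,
      LocalizedModule.mem_ker_mkLinearMap_iff] at h
    obtain ⟨r, hr, hr'⟩ := h
    have := congr_arg e hr'
    rw [map_smul, LinearEquiv.apply_symm_apply, map_zero, Algebra.smul_def, mul_one,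
      Ideal.Quotient.algebraMap_eq, Ideal.Quotient.eq_zero_iff_mem] at this
    exact hr this
  rw [Module.length_eq_one_iff, isSimpleModule_iff]
  have : Nontrivial (LocalizedModule p.primeCompl N) := ⟨g, 0, hg0⟩
  refine { eq_bot_or_eq_top := fun W => or_iff_not_imp_left.2 fun hW => ?_ }
  obtain ⟨x, hxW, hx0⟩ := Submodule.exists_mem_ne_zero_of_ne_bot hW
  induction x using LocalizedModule.induction_on with
  | h m s =>
    obtain ⟨a, ha⟩ := Ideal.Quotient.mk_surjective (e m)
    have hm : m = a • e.symm 1 := by
      apply e.injective
      rw [map_smul, LinearEquiv.apply_symm_apply, Algebra.smul_def, mul_one,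
        Ideal.Quotient.algebraMap_eq, ha]
    have ha' : a ∈ p.primeCompl := by
      intro hap
      apply hx0
      have : m = 0 := by
        apply e.injective
        rw [← ha, map_zero, Ideal.Quotient.eq_zero_iff_mem]; exact hap
      simp [this]
    rw [eq_top_iff]
    intro y _
    induction y using LocalizedModule.induction_on with
    | h m' s' =>
      obtain ⟨a', ha''⟩ := Ideal.Quotient.mk_surjective (e m')
      have hm' : m' = a' • e.symm 1 := by
        apply e.injective
        rw [map_smul, LinearEquiv.apply_symm_apply, Algebra.smul_def, mul_one,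
          Ideal.Quotient.algebraMap_eq, ha'']
      have := W.smul_mem (Localization.mk (a' * (s : A)) (⟨a, ha'⟩ * s')) hxW
      rw [LocalizedModule.mk_smul_mk] at this
      convert this using 1
      rw [LocalizedModule.mk_eq]
      refine ⟨1, ?_⟩
      simp only [one_smul, hm, hm', Submonoid.smul_def, Submonoid.coe_mul, smul_smul]
      congr 1
      ring

end Groth.Agent.LenLib
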