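import Groth.Agent.LenLib.Semilocal
import Mathlib.RingTheory.IntegralClosure.IsIntegralClosure.Basic
import Mathlib.RingTheory.Adjoin.FG
import Mathlib.RingTheory.Ideal.GoingUp
import Mathlib.RingTheory.LocalRing.ResidueField.Basic

/-!
The norm formula for orders, for a family of local rings inside the larger field.
-/

set_option autoImplicit false
set_option linter.style.haveILetI false
set_option maxHeartbeats 400000

universe u

open IsLocalRing

namespace Groth.Agent.LenLib

variable {R K L : Type u} [CommRing R] [IsDomain R] [IsNoetherianRing R] [IsLocalRing R] [Field K]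
  [Field L] [Algebra R K] [IsFractionRing R K] [Algebra K L] [Algebra R L] [IsScalarTower R K L]
  [FiniteDimensional K L]

/-- Order of the norm is the sum of the orders weighted by the residue degrees. -/
theorem ordFrac_norm_family (hR : ringKrullDim R = 1) {B₀ : Type u} [CommRing B₀] (ev : B₀ →+* L)
    (hint : ∀ b, IsIntegral R (ev b)) (G : Finset B₀)
    (hG : ∀ b, ev b ∈ Algebra.adjoin R (ev '' (G : Set B₀)))
    (hfrac : ∀ z : L, ∃ a b, z = ev a / ev b)
    {ι : Type*} [Fintype ι] (S : ι → Type u) [∀ i, CommRing (S i)] [∀ i, IsDomain (S i)]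
    [∀ i, IsNoetherianRing (S i)] [∀ i, IsLocalRing (S i)] [∀ i, Ring.KrullDimLE 1 (S i)]
    [∀ i, Algebra (S i) L] [∀ i, IsFractionRing (S i) L] [∀ i, Algebra R (S i)]
    [∀ i, IsScalarTower R (S i) L] [∀ i, IsLocalHom (algebraMap R (S i))]
    (ψ : ∀ i, B₀ →+* S i) (hψ : ∀ i b, algebraMap (S i) L (ψ i b) = ev b)
    (hsurj : ∀ i (s : S i), ∃ a b, IsUnit (ψ i b) ∧ s * ψ i b = ψ i a)
    (hdist : ∀ i j, (maximalIdeal (S i)).comap (ψ i) = (maximalIdeal (S j)).comap (ψ j) → i = j)
    (hpts : ∀ (B : Subalgebra R L) (hB : ∀ b, ev b ∈ B) (n : Ideal B), n.IsMaximal →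
      n.comap (algebraMap R B) = maximalIdeal R →
      ∃ i, ∀ b, (⟨ev b, hB b⟩ : B) ∈ n ↔ ψ i b ∈ maximalIdeal (S i))
    {g : L} (hg : g ≠ 0) :
    CycAlg.ordFrac R K (Algebra.norm K g) =
      ∑ i, ((Module.length R (ResidueField (S i))).toNat : ℤ) * CycAlg.ordFrac (S i) L g := by
  classical
  haveI : Ring.KrullDimLE 1 R := Ring.krullDimLE_iff.2 (hR.le)
  let B : Subalgebra R L := Algebra.adjoin R (ev '' (G : Set B₀))
  haveI hfinB : Module.Finite R B := Module.Finite.iff_fg.2
    (fg_adjoin_of_finite (G.finite_toSet.image _) (by rintro _ ⟨b, -, rfl⟩; exact hint b))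
  haveI : Algebra.IsIntegral R B := Algebra.IsIntegral.of_finite R B
  have hle : ∀ i, B ≤ (IsScalarTower.toAlgHom R (S i) L).range := fun i =>
    Algebra.adjoin_le (by rintro _ ⟨b, -, rfl⟩; exact ⟨ψ i b, hψ i b⟩)
  have hSinj : ∀ i, Function.Injective (algebraMap (S i) L) := fun i => IsFractionRing.injective (S i) L
  let Ψ : ∀ i, B →ₐ[R] S i := fun i =>
    ((AlgEquiv.ofInjective (IsScalarTower.toAlgHom R (S i) L) (hSinj i)).symm.toAlgHom).comp
      (Subalgebra.inclusion (hle i))
  have hΨ : ∀ i (x : B), algebraMap (S i) L (Ψ i x) = x := fun i x => by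
    have := (AlgEquiv.ofInjective (IsScalarTower.toAlgHom R (S i) L) (hSinj i)).apply_symm_apply
      (Subalgebra.inclusion (hle i) x)
    exact congrArg Subtype.val this
  let ev' : B₀ → B := fun b => ⟨ev b, hG b⟩
  have hΨev : ∀ i b, Ψ i (ev' b) = ψ i b := fun i b => hSinj i ((hΨ i _).trans (hψ i b).symm)
  have hrepr : ∀ i (x : B), ∃ a b, IsUnit (ψ i b) ∧ x * ev' b = ev' a := by
    intro i x
    obtain ⟨a, b, hb, he⟩ := hsurj i (Ψ i x)
    refine ⟨a, b, hb, Subtype.ext ?_⟩
    have := congrArg (algebraMap (S i) L) he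
    rw [map_mul, hΨ, hψ, hψ] at this
    exact this
  let n : ι → Ideal B := fun i => (maximalIdeal (S i)).comap (Ψ i).toRingHom
  have hover : ∀ i, (n i).comap (algebraMap R B) = maximalIdeal R := fun i => by
    rw [Ideal.comap_comap, show (Ψ i).toRingHom.comp (algebraMap R B) = algebraMap R (S i) from
      RingHom.ext (Ψ i).commutes]
    exact ((IsLocalRing.local_hom_TFAE (algebraMap R (S i))).out 0 4).mp (‹∀ i, IsLocalHom (algebraMap R (S i))› i)
  haveI hnmax : ∀ i, (n i).IsMaximal := fun i => by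
    haveI : (n i).IsPrime := Ideal.IsPrime.comap _
    exact Ideal.isMaximal_of_isIntegral_of_isMaximal_comap (R := R) (n i)
      (by rw [hover]; exact maximalIdeal.isMaximal R)
  have hunit : ∀ i b, IsUnit (ψ i b) → ev' b ∉ n i := fun i b hb hmem =>
    (by rw [Ideal.mem_comap] at hmem; exact hmem : Ψ i (ev' b) ∈ maximalIdeal (S i)) (hΨev i b ▸ hb)
  have hn : Function.Injective n := fun i j hij => hdist i j <| by
    ext b
    rw [Ideal.mem_comap, Ideal.mem_comap, ← hΨev, ← hΨev]
    exact (SetLike.ext_iff.1 hij (ev' b))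
  have hall : ∀ m : Ideal B, m.IsMaximal → ∃ i, n i = m := by
    intro m hm
    haveI := hm
    obtain ⟨i, hi⟩ := hpts B hG m hm (IsLocalRing.eq_maximalIdeal
      (Ideal.isMaximal_comap_of_isIntegral_of_isMaximal (R := R) m))
    refine ⟨i, ?_⟩
    ext x
    obtain ⟨a, b, hb, he⟩ := hrepr i x
    have h1 : ev' b ∉ m := fun h => (hi b).1 h hb
    have h2 : x ∈ m ↔ ev' a ∈ m := ⟨fun h => he ▸ Ideal.mul_mem_right _ _ h, fun h =>
      ((hm.isPrime.mem_or_mem (he ▸ h)).resolve_right h1)⟩
    have h3 : x ∈ n i ↔ ev' a ∈ n i := ⟨fun h => he ▸ Ideal.mul_mem_right _ _ h, fun h =>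
      (((hnmax i).isPrime.mem_or_mem (he ▸ h)).resolve_right (hunit i b hb))⟩
    rw [h2, h3, hi a, Ideal.mem_comap]
    exact iff_of_eq (congrArg (· ∈ maximalIdeal (S i)) (hΨev i a))
  letI : ∀ i, Algebra B (S i) := fun i => (Ψ i).toRingHom.toAlgebra
  haveI : ∀ i, IsLocalization.AtPrime (S i) (n i) := fun i =>
    { map_units := fun y => by
        by_contra h
        exact y.2 h
      surj := fun s => by
        obtain ⟨a, b, hb, he⟩ := hsurj i s
        refine ⟨(ev' a, ⟨ev' b, hunit i b hb⟩), ?_⟩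
        show s * Ψ i (ev' b) = Ψ i (ev' a)
        rw [hΨev, hΨev]
        exact he
      exists_of_eq := fun {x y} h => ⟨1, by
        congr 1
        refine Subtype.ext ?_
        rw [← hΨ i x, ← hΨ i y]
        exact congrArg _ h⟩ }
  haveI : IsFractionRing B L := by
    haveI : FaithfulSMul B L :=
      (faithfulSMul_iff_algebraMap_injective _ _).2 Subtype.val_injective
    exact IsFractionRing.of_field _ _ fun z => by
      obtain ⟨a, b, h⟩ := hfrac z
      exact ⟨ev' a, ev' b, h⟩
  have hRinj : Function.Injective (algebraMap R B) := fun x y h => IsFractionRing.injective R K <|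
    (algebraMap K L).injective (by
      rw [← IsScalarTower.algebraMap_apply R K L, ← IsScalarTower.algebraMap_apply R K L]
      exact congrArg Subtype.val h)
  have hlen : ∀ i, Module.length R (B ⧸ n i) = Module.length R (ResidueField (S i)) := by
    intro i
    let χ : B →ₐ[R] ResidueField (S i) := (IsScalarTower.toAlgHom R (S i) (ResidueField (S i))).comp (Ψ i)
    have hker : RingHom.ker χ.toRingHom = n i := Ideal.ext fun x => IsLocalRing.residue_eq_zero_iff _
    have hs : Function.Surjective χ := by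
      intro z
      obtain ⟨s, rfl⟩ := IsLocalRing.residue_surjective z
      obtain ⟨a, b, hb, he⟩ := hsurj i s
      obtain ⟨c, hc⟩ := (hnmax i).exists_inv (hunit i b hb)
      obtain ⟨d, hd, hcd⟩ := hc
      refine ⟨ev' a * c, ?_⟩
      have h1 : χ c * χ (ev' b) = 1 := by
        have h2 : χ d = 0 := IsLocalRing.residue_eq_zero_iff _ |>.2 hd
        have h3 := congrArg χ hcd
        rw [map_add, map_mul, map_one, h2, add_zero] at h3
        exact h3
      have h4 : χ (ev' a) = residue (S i) s * χ (ev' b) := by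
        show residue (S i) (Ψ i (ev' a)) = residue (S i) s * residue (S i) (Ψ i (ev' b))
        rw [hΨev, hΨev, ← map_mul, he]
      rw [map_mul, h4, mul_assoc, mul_comm (χ (ev' b)), h1, mul_one]
    exact ((Ideal.quotientEquivAlgOfEq R hker.symm).trans
      (Ideal.quotientKerAlgEquivOfSurjective hs)).toLinearEquiv.length_eq
  have key : ∀ b : B₀, ev b ≠ 0 → CycAlg.ordFrac R K (Algebra.norm K (ev b)) =
      ∑ i, ((Module.length R (ResidueField (S i))).toNat : ℤ) * CycAlg.ordFrac (S i) L (ev b) := by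
    intro b hb
    have hb' : ev' b ≠ 0 := fun h => hb (congrArg Subtype.val h)
    rw [show ev b = algebraMap B L (ev' b) from rfl, ordFrac_norm_eq hR hRinj K L n hn hall S hb']
    refine Finset.sum_congr rfl fun i _ => ?_
    rw [hlen, show algebraMap B (S i) (ev' b) = Ψ i (ev' b) from rfl, hΨev,
      show algebraMap B L (ev' b) = algebraMap (S i) L (ψ i b) from (hψ i b).symm,
      ordFrac_algebraMap (A := S i) (K := L) fun h => hb (by rw [← hψ i b, h, map_zero])]
  obtain ⟨a, b, rfl⟩ := hfrac g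
  obtain ⟨ha, hb⟩ := div_ne_zero_iff.1 hg
  have hN : ∀ z : L, z ≠ 0 → Algebra.norm K z ≠ 0 := fun z hz =>
    ((Ne.isUnit hz).map (Algebra.norm K)).ne_zero
  have e1 := key a ha
  have e2 := key b hb
  have h3 : ∀ i, CycAlg.ordFrac (S i) L (ev a) =
      CycAlg.ordFrac (S i) L (ev a / ev b) + CycAlg.ordFrac (S i) L (ev b) := fun i => by
    rw [← ordFrac_mul (A := S i) hg hb, div_mul_cancel₀ _ hb]
  have h4 : CycAlg.ordFrac R K (Algebra.norm K (ev a)) =
      CycAlg.ordFrac R K (Algebra.norm K (ev a / ev b)) + CycAlg.ordFrac R K (Algebra.norm K (ev b)) := by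
    rw [← ordFrac_mul (A := R) (hN _ hg) (hN _ hb), ← map_mul, div_mul_cancel₀ _ hb]
  simp only [h3, h4, mul_add, Finset.sum_add_distrib] at e1
  omega

end Groth.Agent.LenLib
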