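import Groth.Agent.LenLib.Index
import Mathlib.RingTheory.OrderOfVanishing.Basic
import Mathlib.LinearAlgebra.Matrix.Transvection
import Mathlib.LinearAlgebra.Matrix.ToLin
import Mathlib.LinearAlgebra.Matrix.Adjugate
import Mathlib.LinearAlgebra.Quotient.Pi
import Mathlib.LinearAlgebra.Matrix.ToLinearEquiv
import Mathlib.RingTheory.Localization.FractionRing

/-!
Over a one-dimensional Noetherian domain, the length of the cokernel of a square matrix with
nonzero determinant is the order of the determinant.
-/

namespace Groth.Agent.LenLib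

open Matrix LinearMap Function

universe u

/-- order of vanishing as an integer -/
noncomputable def ordZ {B : Type*} [CommRing B] (x : B) : ℤ := lenZ B (B ⧸ Ideal.span {x})

variable {B : Type*} [CommRing B] {n : Type*} [Fintype n] [DecidableEq n]

theorem ordZ_of_isUnit {x : B} (hx : IsUnit x) : ordZ x = 0 := by
  have : Ring.ord B x = 0 := Ring.ord_of_isUnit hx
  simp only [ordZ, lenZ, Ring.ord] at this ⊢
  simp [this]

theorem det_smul_mem_range (Q : Matrix n n B) (x : n → B) : Q.det • x ∈ range Q.mulVecLin := by
  refine ⟨Q.adjugate *ᵥ x, ?_⟩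
  simp [Matrix.mulVec_mulVec, Matrix.mul_adjugate, Matrix.smul_mulVec]

theorem length_coker_mulVecLin_le (Q : Matrix n n B) :
    Module.length B ((n → B) ⧸ range Q.mulVecLin) ≤
      Fintype.card n * Module.length B (B ⧸ Ideal.span {Q.det}) := by
  let p : n → Submodule B B := fun _ => Ideal.span {Q.det}
  have hle : Submodule.pi Set.univ p ≤ range Q.mulVecLin := by
    intro x hx
    have : ∀ i, ∃ c, x i = Q.det * c := fun i =>
      Ideal.mem_span_singleton.1 (hx i trivial)
    choose c hc using this
    have : x = Q.det • c := funext fun i => by simp [hc i]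
    rw [this]; exact det_smul_mem_range Q c
  refine (Module.length_le_of_surjective (Submodule.factor hle)
    (Submodule.factor_surjective hle)).trans ?_
  rw [(Submodule.quotientPi p).length_eq, Module.length_pi_of_fintype]
  rw [← nsmul_eq_mul, ← Finset.card_univ]
  exact le_of_eq (Finset.sum_eq_card_nsmul fun i _ => rfl)

theorem injective_mulVecLin_of_det [IsDomain B] (Q : Matrix n n B) (hQ : Q.det ≠ 0) :
    Injective Q.mulVecLin := by
  rw [← LinearMap.ker_eq_bot, LinearMap.ker_eq_bot']
  intro x hx
  exact Matrix.eq_zero_of_mulVec_eq_zero hQ hx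

variable [IsDomain B] [IsNoetherianRing B] [Ring.KrullDimLE 1 B]

theorem length_quot_span_ne_top {x : B} (hx : x ≠ 0) :
    Module.length B (B ⧸ Ideal.span {x}) ≠ ⊤ :=
  Ring.ord_ne_top (mem_nonZeroDivisors_iff_ne_zero.2 hx)

theorem ordZ_mul {a b : B} (ha : a ≠ 0) (hb : b ≠ 0) : ordZ (a * b) = ordZ a + ordZ b := by
  have h : Ring.ord B (a * b) = Ring.ord B a + Ring.ord B b :=
    Ring.ord_mul B (mem_nonZeroDivisors_iff_ne_zero.2 hb)
  simp only [ordZ, lenZ, Ring.ord] at h ⊢
  rw [h, ENat.toNat_add (length_quot_span_ne_top ha) (length_quot_span_ne_top hb)]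
  push_cast; rfl

theorem ordZ_prod {ι : Type*} (s : Finset ι) (q : ι → B) (hq : ∀ i, q i ≠ 0) :
    ordZ (∏ i ∈ s, q i) = ∑ i ∈ s, ordZ (q i) := by
  classical
  induction s using Finset.induction with
  | empty => simp [ordZ_of_isUnit isUnit_one]
  | insert a s ha ih =>
    rw [Finset.prod_insert ha, Finset.sum_insert ha, ordZ_mul (hq a)
      (Finset.prod_ne_zero_iff.2 fun i _ => hq i), ih]

theorem hasIndex_mulVecLin (Q : Matrix n n B) (hQ : Q.det ≠ 0) : HasIndex Q.mulVecLin := by
  refine ⟨?_, ne_top_of_le_ne_top (WithTop.mul_ne_top ?_ (length_quot_span_ne_top hQ))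
    (length_coker_mulVecLin_le Q)⟩
  · have : Subsingleton (ker Q.mulVecLin) := by
      rw [Submodule.subsingleton_iff_eq_bot]
      exact ker_eq_bot.2 (injective_mulVecLin_of_det Q hQ)
    simp [Module.length_eq_zero]
  · exact ENat.natCast_ne_top _

/-- the defect that is to be shown to vanish -/
noncomputable def defect (Q : Matrix n n B) : ℤ := index Q.mulVecLin - ordZ Q.det

theorem defect_mul (P Q : Matrix n n B) (hP : P.det ≠ 0) (hQ : Q.det ≠ 0) :
    defect (P * Q) = defect P + defect Q := by
  unfold defect
  rw [Matrix.mulVecLin_mul, index_comp (hasIndex_mulVecLin P hP) (hasIndex_mulVecLin Q hQ),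
    Matrix.det_mul, ordZ_mul hP hQ]
  ring

theorem defect_diagonal (q : n → B) (hq : ∀ i, q i ≠ 0) : defect (diagonal q) = 0 := by
  have hdet : (diagonal q).det ≠ 0 := by
    rw [det_diagonal]; exact Finset.prod_ne_zero_iff.2 fun i _ => hq i
  let p : n → Submodule B B := fun i => Ideal.span {q i}
  have hr : range (diagonal q).mulVecLin = Submodule.pi Set.univ p := by
    ext x
    constructor
    · rintro ⟨y, rfl⟩ i -
      exact Ideal.mem_span_singleton.2 ⟨y i, by simp [mulVec_diagonal]⟩
    · intro hx
      choose c hc using fun i => Ideal.mem_span_singleton.1 (hx i trivial)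
      exact ⟨c, funext fun i => by simp [mulVec_diagonal, hc i]⟩
  have e : Module.length B ((n → B) ⧸ range (diagonal q).mulVecLin) =
      ∑ i, Module.length B (B ⧸ Ideal.span {q i}) := by
    rw [hr, (Submodule.quotientPi p).length_eq, Module.length_pi_of_fintype]
  unfold defect
  rw [index_of_injective (injective_mulVecLin_of_det _ hdet), det_diagonal,
    ordZ_prod _ _ hq]
  unfold lenZ ordZ
  obtain ⟨f, hf⟩ : ∃ f : n → ℕ, ∀ i, Module.length B (B ⧸ Ideal.span {q i}) = f i :=
    ⟨fun i => (Module.length B (B ⧸ Ideal.span {q i})).toNat,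
      fun i => (ENat.natCast_toNat (length_quot_span_ne_top (hq i))).symm⟩
  simp [e, hf, ← Nat.cast_sum, lenZ]

theorem defect_transvection (i j : n) (hij : i ≠ j) (w : B) : defect (transvection i j w) = 0 := by
  unfold defect
  rw [det_transvection_of_ne i j hij, ordZ_of_isUnit isUnit_one, index_of_bijective]
  · rfl
  · have h1 : transvection i j w * transvection i j (-w) = 1 := by
      rw [transvection_mul_transvection_same i j hij]; simp [transvection_zero]
    have h2 : transvection i j (-w) * transvection i j w = 1 := by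
      rw [transvection_mul_transvection_same i j hij]; simp [transvection_zero]
    constructor
    · exact injective_mulVecLin_of_det _ (by simp [det_transvection_of_ne i j hij])
    · intro y
      exact ⟨transvection i j (-w) *ᵥ y, by simp [mulVec_mulVec, h1]⟩

theorem defect_scaled_transvection (i j : n) (hij : i ≠ j) (s w : B) (hs : s ≠ 0) :
    defect (diagonal (fun _ => s) + single i j w) = 0 := by
  let d : n → B := fun l => if l = j then s else 1
  let D' : n → B := fun l => s * d l
  have hd : ∀ l, d l ≠ 0 := fun l => by by_cases h : l = j <;> simp [d, h, hs]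
  have key : (diagonal (fun _ => s) + single i j w) * diagonal d =
      diagonal D' * transvection i j w := by
    ext a b
    rw [Matrix.mul_diagonal, Matrix.diagonal_mul, transvection, Matrix.add_apply, Matrix.add_apply]
    by_cases h : i = a ∧ j = b
    · obtain ⟨rfl, rfl⟩ := h
      simp [D', d, hij, mul_comm]
    · by_cases hab : a = b
      · subst hab; simp [D', single_apply_of_ne, h]
      · simp [D', single_apply_of_ne, h, hab]
  have hdd : (diagonal d).det ≠ 0 := by
    rw [det_diagonal]; exact Finset.prod_ne_zero_iff.2 fun l _ => hd l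
  have hD' : (diagonal D').det ≠ 0 := by
    rw [det_diagonal]; exact Finset.prod_ne_zero_iff.2 fun l _ => mul_ne_zero hs (hd l)
  have hT : (transvection i j w).det ≠ 0 := by simp [det_transvection_of_ne i j hij]
  have hQ : (diagonal (fun _ => s) + single i j w).det ≠ 0 := by
    intro h
    have := congr_arg Matrix.det key
    rw [det_mul, h, zero_mul, det_mul] at this
    exact mul_ne_zero hD' hT this.symm
  have h := congr_arg defect key
  rw [defect_mul _ _ hQ hdd, defect_mul _ _ hD' hT, defect_diagonal _ hd,
    defect_diagonal _ (fun l => mul_ne_zero hs (hd l)), defect_transvection i j hij] at h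
  simpa using h

theorem defect_eq_zero (Q : Matrix n n B) (hQ : Q.det ≠ 0) : defect Q = 0 := by
  let K := FractionRing B
  let φ : B →+* K := algebraMap B K
  have hφ : Injective φ := IsFractionRing.injective B K
  have hmap : Injective (fun P : Matrix n n B => P.map φ) := Matrix.map_injective hφ
  suffices H : ∀ M : Matrix n n K, M.det ≠ 0 → ∀ (s : B) (P : Matrix n n B), s ≠ 0 →
      P.map φ = φ s • M → defect P = 0 by
    refine H (Q.map φ) ?_ 1 Q one_ne_zero (by simp)
    rw [← RingHom.mapMatrix_apply, ← RingHom.map_det]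
    exact (map_ne_zero_iff φ hφ).2 hQ
  intro M hM
  refine diagonal_transvection_induction_of_det_ne_zero
    (fun M => ∀ (s : B) (P : Matrix n n B), s ≠ 0 → P.map φ = φ s • M → defect P = 0) M hM
    ?_ ?_ ?_
  · intro D hD
    intro s P hs hP
    have hPd : P = diagonal (fun i => P i i) := by
      ext a b
      by_cases h : a = b
      · subst h; simp
      · have := congr_fun (congr_fun hP a) b
        simp [h] at this ⊢
        exact (map_eq_zero_iff φ hφ).1 this
    rw [hPd]
    refine defect_diagonal _ (fun i hi => ?_)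
    have := congr_fun (congr_fun hP i) i
    simp [hi] at this
    rcases this with h | h
    · exact hs ((map_eq_zero_iff φ hφ).1 h)
    · apply hD; rw [det_diagonal]; exact Finset.prod_eq_zero (Finset.mem_univ i) h
  · intro t
    intro s P hs hP
    obtain ⟨i, j, hij, c⟩ := t
    have hP' : P = diagonal (fun _ => s) + single i j (P i j) := by
      ext a b
      have := congr_fun (congr_fun hP a) b
      simp only [TransvectionStruct.toMatrix, transvection, Matrix.map_apply, Matrix.smul_apply,
        Matrix.add_apply, smul_eq_mul] at this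
      by_cases h : i = a ∧ j = b
      · obtain ⟨rfl, rfl⟩ := h; simp [hij]
      · by_cases hab : a = b
        · subst hab
          simp [single_apply_of_ne, h] at this ⊢
          exact hφ this
        · simp [single_apply_of_ne, h, hab] at this ⊢
          exact (map_eq_zero_iff φ hφ).1 this
    rw [hP']
    exact defect_scaled_transvection i j hij s _ hs
  · intro M₁ M₂ h₁ h₂ ih₁ ih₂
    intro s P hs hP
    have hden : ∀ M : Matrix n n K, ∃ (a : B) (R : Matrix n n B), a ≠ 0 ∧ R.map φ = φ a • M := by
      intro M
      obtain ⟨⟨b, hb⟩, hb'⟩ := IsLocalization.exist_integer_multiples_of_finite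
        (nonZeroDivisors B) (fun x : n × n => M x.1 x.2)
      choose R hR using fun a c => hb' (a, c)
      refine ⟨b, Matrix.of R, nonZeroDivisors.ne_zero hb, ?_⟩
      ext a c
      simp only [Matrix.map_apply, Matrix.of_apply, Matrix.smul_apply, smul_eq_mul]
      rw [hR a c, Algebra.smul_def]
    obtain ⟨a₁, R₁, ha₁, hR₁⟩ := hden M₁
    obtain ⟨a₂, R₂, ha₂, hR₂⟩ := hden M₂
    have key : diagonal (fun _ => s) * (R₁ * R₂) = diagonal (fun _ => a₁ * a₂) * P := by
      apply hmap
      simp only [← smul_one_eq_diagonal, Matrix.smul_mul, Matrix.one_mul]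
      rw [Matrix.map_smul' φ s _ (map_mul φ), Matrix.map_smul' φ (a₁ * a₂) _ (map_mul φ),
        Matrix.map_mul, hR₁, hR₂, hP, Matrix.smul_mul, Matrix.mul_smul, map_mul]
      simp only [smul_smul]
      congr 1
      ring
    have hdet : ∀ (a : B) (R : Matrix n n B) (M : Matrix n n K), a ≠ 0 → M.det ≠ 0 →
        R.map φ = φ a • M → R.det ≠ 0 := by
      intro a R M ha hM h h0
      have := congr_arg Matrix.det h
      rw [← RingHom.mapMatrix_apply, ← RingHom.map_det, h0, map_zero, det_smul] at this
      exact mul_ne_zero (pow_ne_zero _ ((map_ne_zero_iff φ hφ).2 ha)) hM this.symm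
    have hR1 := hdet a₁ R₁ M₁ ha₁ h₁ hR₁
    have hR2 := hdet a₂ R₂ M₂ ha₂ h₂ hR₂
    have hPd : P.det ≠ 0 := hdet s P _ hs (by simp [h₁, h₂]) hP
    have hsd : ∀ a : B, a ≠ 0 → (diagonal fun _ : n => a).det ≠ 0 := fun a ha => by
      rw [det_diagonal]; exact Finset.prod_ne_zero_iff.2 fun _ _ => ha
    have h := congr_arg defect key
    rw [defect_mul _ _ (hsd s hs) (by simp [hR1, hR2]), defect_mul _ _ hR1 hR2,
      ih₁ a₁ R₁ ha₁ hR₁, ih₂ a₂ R₂ ha₂ hR₂, defect_mul _ _ (hsd _ (mul_ne_zero ha₁ ha₂)) hPd,
      defect_diagonal _ (fun _ => hs), defect_diagonal _ (fun _ => mul_ne_zero ha₁ ha₂)] at h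
    simpa using h.symm

theorem index_mulVecLin (Q : Matrix n n B) (hQ : Q.det ≠ 0) : index Q.mulVecLin = ordZ Q.det :=
  sub_eq_zero.1 (defect_eq_zero Q hQ)

end Groth.Agent.LenLib
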