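import Groth.Agent.LenLib.DomainDet
import Groth.Prelude.Def_Tame

/-!
API for `CycAlg.ordFrac` over one-dimensional Noetherian domains.
-/

namespace Groth.Agent.LenLib

universe u v

variable {A : Type u} [CommRing A] [IsDomain A] [IsNoetherianRing A] [Ring.KrullDimLE 1 A]
  {K : Type v} [Field K] [Algebra A K] [IsFractionRing A K]

theorem ordFrac_eq (f : K) : CycAlg.ordFrac A K f =
    WithZero.recZeroCoe (motive := fun _ => ℤ) 0 (fun z => Multiplicative.toAdd z)
      (Ring.ordFrac A f) := by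
  unfold CycAlg.ordFrac
  rw [dif_pos ⟨‹_›, ‹_›, inferInstance, ‹_›⟩]

theorem ordFrac_algebraMap {a : A} (ha : a ≠ 0) :
    CycAlg.ordFrac A K (algebraMap A K a) = ordZ a := by
  have hz : a ∈ nonZeroDivisors A := mem_nonZeroDivisors_iff_ne_zero.2 ha
  rw [ordFrac_eq, Ring.ordFrac_eq_ord A ha, Ring.ordMonoidWithZeroHom_eq_coe A hz
    (n := (Ring.ord A a).toNat) (ENat.natCast_toNat (Ring.ord_ne_top hz)).symm]
  rfl

theorem ordFrac_one : CycAlg.ordFrac A K (1 : K) = 0 := by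
  rw [ordFrac_eq, map_one]; rfl

theorem ordFrac_mul {x y : K} (hx : x ≠ 0) (hy : y ≠ 0) :
    CycAlg.ordFrac A K (x * y) = CycAlg.ordFrac A K x + CycAlg.ordFrac A K y := by
  have hne : ∀ z : K, z ≠ 0 → ∃ m : Multiplicative ℤ, Ring.ordFrac A z = m := fun z hz => by
    have : Ring.ordFrac A z ≠ 0 := (map_ne_zero (Ring.ordFrac A (K := K))).2 hz
    exact ⟨WithZero.unzero this, (WithZero.coe_unzero this).symm⟩
  obtain ⟨m, hm⟩ := hne x hx
  obtain ⟨k, hk⟩ := hne y hy
  rw [ordFrac_eq, ordFrac_eq, ordFrac_eq, map_mul, hm, hk, ← WithZero.coe_mul]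
  rfl

theorem ordFrac_pow {x : K} (hx : x ≠ 0) (k : ℕ) :
    CycAlg.ordFrac A K (x ^ k) = k * CycAlg.ordFrac A K x := by
  induction k with
  | zero => simp [ordFrac_one]
  | succ k ih => rw [pow_succ, ordFrac_mul (pow_ne_zero _ hx) hx, ih]; push_cast; ring

theorem ordFrac_mk {a b : A} (ha : a ≠ 0) (hb : b ≠ 0) :
    CycAlg.ordFrac A K (algebraMap A K a / algebraMap A K b) = ordZ a - ordZ b := by
  have hb' : algebraMap A K b ≠ 0 := IsFractionRing.to_map_ne_zero_of_mem_nonZeroDivisors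
    (mem_nonZeroDivisors_iff_ne_zero.2 hb)
  have ha' : algebraMap A K a ≠ 0 := IsFractionRing.to_map_ne_zero_of_mem_nonZeroDivisors
    (mem_nonZeroDivisors_iff_ne_zero.2 ha)
  have h := ordFrac_mul (A := A) (div_ne_zero ha' hb') hb'
  rw [div_mul_cancel₀ _ hb', ordFrac_algebraMap ha, ordFrac_algebraMap hb] at h
  omega

end Groth.Agent.LenLib
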