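import Groth.Agent.LenLib.OrdFrac
import Mathlib.Algebra.Module.Lattice
import Mathlib.LinearAlgebra.Isomorphisms
import Mathlib.LinearAlgebra.FreeModule.Finite.Basic
import Mathlib.RingTheory.Finiteness.Prod
import Mathlib.Data.ENat.BigOperators

/-!
Lattices over one-dimensional Noetherian domains: colengths, distance, determinant formula.
-/

namespace Groth.Agent.LenLib

open Function LinearMap

universe u

variable {A : Type u} [CommRing A] {K : Type u} [Field K] [Algebra A K]
  {V : Type u} [AddCommGroup V] [Module K V] [Module A V] [IsScalarTower A K V]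

/-- colength of `N` in `M` as an integer -/
noncomputable def colen (M N : Submodule A V) : ℤ := lenZ A (↥M ⧸ N.submoduleOf M)

/-- lattice distance -/
noncomputable def latDist (M N : Submodule A V) : ℤ := colen M (M ⊓ N) - colen N (M ⊓ N)

theorem exists_smul_mem_of_mem_span [IsDomain A] [IsFractionRing A K] (M : Submodule A V) {x : V}
    (hx : x ∈ Submodule.span K (M : Set V)) : ∃ a : A, a ≠ 0 ∧ a • x ∈ M := by
  induction hx using Submodule.span_induction with
  | mem y hy => exact ⟨1, one_ne_zero, by simpa using hy⟩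
  | zero => exact ⟨1, one_ne_zero, by simp⟩
  | add y z _ _ hy hz =>
    obtain ⟨a, ha, hya⟩ := hy
    obtain ⟨b, hb, hzb⟩ := hz
    refine ⟨a * b, mul_ne_zero ha hb, ?_⟩
    rw [smul_add]
    exact add_mem (by rw [mul_comm, mul_smul]; exact M.smul_mem b hya)
      (by rw [mul_smul]; exact M.smul_mem a hzb)
  | smul c y _ hy =>
    obtain ⟨a, ha, hya⟩ := hy
    obtain ⟨⟨p, q⟩, hpq⟩ := IsLocalization.surj (nonZeroDivisors A) c
    refine ⟨(q : A) * a, mul_ne_zero (nonZeroDivisors.ne_zero q.2) ha, ?_⟩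
    have : ((q : A) * a) • c • y = p • a • y := by
      rw [← algebraMap_smul K ((q : A) * a), ← algebraMap_smul K p, ← algebraMap_smul K a y,
        smul_smul, smul_smul]
      congr 1
      rw [map_mul]
      linear_combination (algebraMap A K a) * hpq
    rw [this]
    exact M.smul_mem p hya

theorem exists_smul_le [IsDomain A] [IsFractionRing A K] {M : Submodule A V} (hM : M.FG)
    {N : Submodule A V} (hN : Submodule.span K (N : Set V) = ⊤) :
    ∃ a : A, a ≠ 0 ∧ ∀ x ∈ M, a • x ∈ N := by
  obtain ⟨s, rfl⟩ := hM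
  choose a ha hmem using fun x : V =>
    exists_smul_mem_of_mem_span (K := K) N (show x ∈ Submodule.span K (N : Set V) by rw [hN]; trivial)
  refine ⟨∏ x ∈ s, a x, Finset.prod_ne_zero_iff.2 fun x _ => ha x, fun x hx => ?_⟩
  induction hx using Submodule.span_induction with
  | mem y hy =>
    obtain ⟨k, hk⟩ := Finset.dvd_prod_of_mem a hy
    rw [hk, mul_comm, mul_smul]; exact N.smul_mem k (hmem y)
  | zero => simp
  | add y z _ _ hy hz => rw [smul_add]; exact add_mem hy hz
  | smul c y _ hy => rw [smul_comm]; exact N.smul_mem c hy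

theorem colen_le_chain {P N M : Submodule A V} (h₁ : P ≤ N) (h₂ : N ≤ M) :
    Module.length A (↥M ⧸ P.submoduleOf M) =
      Module.length A (↥N ⧸ P.submoduleOf N) + Module.length A (↥M ⧸ N.submoduleOf M) := by
  refine Module.length_eq_add_of_exact
    ((P.submoduleOf N).mapQ (P.submoduleOf M) (Submodule.inclusion h₂) fun x hx => hx)
    (Submodule.factor (fun x hx => h₁ hx : P.submoduleOf M ≤ N.submoduleOf M)) ?_
    (Submodule.factor_surjective _) ?_
  · rw [← LinearMap.ker_eq_bot, LinearMap.ker_eq_bot']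
    intro q hq
    obtain ⟨x, rfl⟩ := Submodule.mkQ_surjective _ q
    exact (Submodule.Quotient.mk_eq_zero _).2 ((Submodule.Quotient.mk_eq_zero _).1 hq :)
  · intro q
    obtain ⟨x, rfl⟩ := Submodule.mkQ_surjective _ q
    constructor
    · intro h
      exact ⟨Submodule.Quotient.mk ⟨x, (Submodule.Quotient.mk_eq_zero (N.submoduleOf M)).1 h⟩, rfl⟩
    · rintro ⟨w, hw⟩
      obtain ⟨y, rfl⟩ := Submodule.mkQ_surjective _ w
      rw [← hw]
      exact (Submodule.Quotient.mk_eq_zero _).2 y.2

theorem colen_congr_equiv (e : V ≃ₗ[A] V) (M N : Submodule A V) :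
    colen (M.map e.toLinearMap) (N.map e.toLinearMap) = colen M N := by
  refine (lenZ_congr (Submodule.Quotient.equiv _ _ (e.submoduleMap M) ?_)).symm
  ext ⟨x, hx⟩
  simp only [Submodule.mem_map, Submodule.submoduleOf, Submodule.mem_comap, Submodule.subtype_apply, LinearEquiv.coe_coe, Subtype.ext_iff,
    LinearEquiv.submoduleMap_apply]
  constructor
  · rintro ⟨⟨y, hy⟩, hyN, rfl⟩
    exact ⟨y, hyN, rfl⟩
  · rintro ⟨y, hyN, rfl⟩
    obtain ⟨z, hz, hzy⟩ := hx
    obtain rfl : z = y := e.injective hzy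
    exact ⟨⟨z, hz⟩, hyN, rfl⟩

theorem colen_sup_inf (M N : Submodule A V) : colen (M ⊔ N) N = colen M (M ⊓ N) :=
  (lenZ_congr (LinearMap.quotientInfEquivSupQuotient M N)).symm

variable [IsDomain A] [IsNoetherianRing A] [Ring.KrullDimLE 1 A]

theorem length_quot_ne_top [IsFractionRing A K] {M N : Submodule A V} (hM : M.FG)
    (hN : Submodule.span K (N : Set V) = ⊤) :
    Module.length A (↥M ⧸ N.submoduleOf M) ≠ ⊤ := by
  obtain ⟨a, ha, hle⟩ := exists_smul_le (K := K) hM hN
  haveI := Module.Finite.iff_fg.2 hM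
  obtain ⟨k, f, hf⟩ := Module.Finite.exists_fin' A M
  let p : Fin k → Submodule A A := fun _ => Ideal.span {a}
  have hp : Submodule.pi Set.univ p ≤ ker ((N.submoduleOf M).mkQ ∘ₗ f) := by
    intro x hx
    choose c hc using fun i => Ideal.mem_span_singleton'.1 (hx i trivial)
    have : x = a • c := funext fun i => by rw [← hc i]; simp [mul_comm]
    rw [LinearMap.mem_ker, LinearMap.comp_apply, Submodule.mkQ_apply, Submodule.Quotient.mk_eq_zero,
      this, map_smul]
    exact hle _ (f c).2
  refine ne_top_of_le_ne_top (b := Module.length A ((Fin k → A) ⧸ Submodule.pi Set.univ p)) ?_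
    (Module.length_le_of_surjective ((Submodule.pi Set.univ p).liftQ _ hp) ?_)
  · rw [(Submodule.quotientPi p).length_eq, Module.length_pi_of_fintype]
    exact ENat.sum_ne_top.2 fun i _ => length_quot_span_ne_top ha
  · intro y
    obtain ⟨z, hz⟩ := (Submodule.mkQ_surjective _).comp hf y
    exact ⟨Submodule.Quotient.mk z, hz⟩

variable (K) in
theorem colen_chain [IsFractionRing A K] {P N M : Submodule A V} (h₁ : P ≤ N) (h₂ : N ≤ M)
    (hM : M.FG) (hP : Submodule.span K (P : Set V) = ⊤) : colen M P = colen N P + colen M N := by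
  have hNf : N.FG := by
    haveI := isNoetherian_of_fg_of_noetherian M hM
    exact (fg_of_le_fg h₂ hM : N.FG)
  have hNs : Submodule.span K (N : Set V) = ⊤ :=
    eq_top_iff.2 (hP ▸ Submodule.span_mono h₁)
  unfold colen lenZ
  rw [colen_le_chain h₁ h₂, ENat.toNat_add (length_quot_ne_top (K := K) hNf hP)
    (length_quot_ne_top (K := K) hM hNs)]
  push_cast; rfl
where
  fg_of_le_fg {N M : Submodule A V} (h : N ≤ M) (hM : M.FG) : N.FG := by
    haveI := isNoetherian_of_fg_of_noetherian M hM
    haveI : IsNoetherian A N := isNoetherian_of_le h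
    exact Module.Finite.iff_fg.1 inferInstance

section dist

variable [IsFractionRing A K] (L : Submodule A V)

variable (K) in
theorem latDist_eq {M N : Submodule A V} (hML : M ≤ L) (hNL : N ≤ L) (hL : L.FG)
    (hM : Submodule.span K (M : Set V) = ⊤) (hN : Submodule.span K (N : Set V) = ⊤) :
    latDist M N = colen L N - colen L M := by
  have hsup : (M ⊔ N).FG := colen_chain.fg_of_le_fg (sup_le hML hNL) hL
  have e1 := colen_chain K le_sup_right (sup_le hML hNL) hL hN
  have e2 := colen_chain K le_sup_left (sup_le hML hNL) hL hM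
  have f1 := colen_sup_inf M N
  have f2 : colen (M ⊔ N) M = colen N (M ⊓ N) := by
    rw [sup_comm, colen_sup_inf, inf_comm]
  unfold latDist
  omega

variable (K) in
theorem latDist_add {M₁ M₂ M₃ : Submodule A V} (h1 : M₁.FG) (h2 : M₂.FG) (h3 : M₃.FG)
    (s1 : Submodule.span K (M₁ : Set V) = ⊤) (s2 : Submodule.span K (M₂ : Set V) = ⊤)
    (s3 : Submodule.span K (M₃ : Set V) = ⊤) :
    latDist M₁ M₃ = latDist M₁ M₂ + latDist M₂ M₃ := by
  have hL : (M₁ ⊔ M₂ ⊔ M₃).FG := (h1.sup h2).sup h3
  have a : M₁ ≤ M₁ ⊔ M₂ ⊔ M₃ := le_sup_left.trans le_sup_left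
  have b : M₂ ≤ M₁ ⊔ M₂ ⊔ M₃ := le_sup_right.trans le_sup_left
  have c : M₃ ≤ M₁ ⊔ M₂ ⊔ M₃ := le_sup_right
  rw [latDist_eq K _ a c hL s1 s3, latDist_eq K _ a b hL s1 s2, latDist_eq K _ b c hL s2 s3]
  ring

end dist

theorem latDist_of_le {M N : Submodule A V} (h : N ≤ M) : latDist M N = colen M N := by
  unfold latDist
  rw [inf_eq_right.2 h]
  have : Subsingleton (↥N ⧸ N.submoduleOf N) := by
    rw [Submodule.Quotient.subsingleton_iff]; exact Submodule.submoduleOf_self N
  simp [colen, lenZ, Module.length_eq_zero]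

theorem latDist_of_ge {M N : Submodule A V} (h : M ≤ N) : latDist M N = - colen N M := by
  unfold latDist
  rw [inf_eq_left.2 h]
  have : Subsingleton (↥M ⧸ M.submoduleOf M) := by
    rw [Submodule.Quotient.subsingleton_iff]; exact Submodule.submoduleOf_self M
  simp [colen, lenZ, Module.length_eq_zero]

section det

variable [IsFractionRing A K] [FiniteDimensional K V]

variable (K) in
theorem colen_map_eq_ord {M : Submodule A V} (hM : M.FG)
    (hMs : Submodule.span K (M : Set V) = ⊤) {ι : Type u} [Fintype ι] [DecidableEq ι]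
    (b : Module.Basis ι K V) (hb : ∀ i, b i ∈ M) (ψ : V ≃ₗ[K] V)
    (hψM : ∀ x ∈ M, ψ x ∈ M) (Q : Matrix ι ι A) (hQ : ∀ j, ψ (b j) = ∑ i, Q i j • b i) :
    colen M (M.map (ψ.toLinearMap.restrictScalars A)) =
      CycAlg.ordFrac A K (LinearMap.det ψ.toLinearMap) := by
  let j : (ι → A) →ₗ[A] M :=
    { toFun := fun x => ⟨∑ i, x i • b i, Submodule.sum_mem _ fun i _ => M.smul_mem _ (hb i)⟩
      map_add' := fun x y => Subtype.ext (by simp [add_smul, Finset.sum_add_distrib])
      map_smul' := fun a x => Subtype.ext (by simp [mul_smul, Finset.smul_sum]) }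
  have hjinj : Injective j := by
    rw [← LinearMap.ker_eq_bot, LinearMap.ker_eq_bot']
    intro x hx
    have h : ∑ i, algebraMap A K (x i) • b i = 0 := by
      simpa [algebraMap_smul, j] using congr_arg Subtype.val hx
    have := Fintype.linearIndependent_iff.1 b.linearIndependent _ h
    funext i
    exact IsFractionRing.injective A K (by simp [this i])
  let Ψ : M →ₗ[A] M := (ψ.toLinearMap.restrictScalars A).restrict hψM
  have hΨinj : Injective Ψ := fun x y h => Subtype.ext (ψ.injective (congr_arg Subtype.val h))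
  have hdet : algebraMap A K Q.det = LinearMap.det ψ.toLinearMap := by
    rw [← LinearMap.det_toMatrix b, RingHom.map_det]
    congr 1
    ext i k
    rw [LinearMap.toMatrix_apply, LinearEquiv.coe_coe, hQ, map_sum]
    rw [Finset.sum_apply']
    rw [Finset.sum_eq_single i]
    · rw [← algebraMap_smul K (Q i k) (b i), map_smul]; simp [Algebra.smul_def]
    · intro x _ hx
      rw [← algebraMap_smul K (Q x k) (b x), map_smul]; simp [hx]
    · simp
  have hQ0 : Q.det ≠ 0 := fun h => (LinearEquiv.isUnit_det' ψ).ne_zero (by rw [← hdet, h, map_zero])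
  have hspan : Submodule.span K ((M.map (ψ.toLinearMap.restrictScalars A) : Submodule A V) : Set V) = ⊤ := by
    rw [Submodule.map_coe, LinearMap.coe_restrictScalars, ← Submodule.map_span, hMs,
      Submodule.map_top, LinearEquiv.range]
  have hcoker : Module.length A (M ⧸ range Ψ) ≠ ⊤ := by
    have : (range Ψ) = (M.map (ψ.toLinearMap.restrictScalars A)).submoduleOf M := by
      ext x
      constructor
      · rintro ⟨y, rfl⟩; exact ⟨y, y.2, rfl⟩
      · rintro ⟨y, hy, hyx⟩; exact ⟨⟨y, hy⟩, Subtype.ext hyx⟩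
    rw [(Submodule.quotEquivOfEq _ _ this).length_eq]
    exact length_quot_ne_top (K := K) hM hspan
  have hcol : colen M (M.map (ψ.toLinearMap.restrictScalars A)) = index Ψ := by
    rw [index_of_injective hΨinj]
    refine (lenZ_congr (Submodule.quotEquivOfEq _ _ ?_)).symm
    ext x
    constructor
    · rintro ⟨y, rfl⟩; exact ⟨y, y.2, rfl⟩
    · rintro ⟨y, hy, hyx⟩; exact ⟨⟨y, hy⟩, Subtype.ext hyx⟩
  have hcomm : j ∘ₗ Q.mulVecLin = Ψ ∘ₗ j := by
    apply LinearMap.ext
    intro x
    apply Subtype.ext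
    show ∑ i, (Matrix.mulVec Q x) i • b i = ψ (∑ i, x i • b i)
    rw [map_sum]
    simp only [Matrix.mulVec, dotProduct, Finset.sum_smul]
    rw [Finset.sum_comm]
    refine Finset.sum_congr rfl fun k _ => ?_
    rw [← algebraMap_smul K (x k) (b k), map_smul, algebraMap_smul, hQ, Finset.smul_sum]
    exact Finset.sum_congr rfl fun i _ => by rw [mul_comm, mul_smul]
  have hbspan : Submodule.span K ((range (M.subtype ∘ₗ j) : Submodule A V) : Set V) = ⊤ := by
    rw [eq_top_iff, ← b.span_eq]
    refine Submodule.span_mono ?_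
    rintro _ ⟨i, rfl⟩
    exact ⟨Pi.single i 1, by simp [j, Pi.single_apply]⟩
  have hfinq : Module.length A (M ⧸ range j) ≠ ⊤ := by
    have : range j = (range (M.subtype ∘ₗ j)).submoduleOf M := by
      ext x
      constructor
      · rintro ⟨y, rfl⟩; exact ⟨y, rfl⟩
      · rintro ⟨y, hy⟩; exact ⟨y, Subtype.ext hy⟩
    rw [(Submodule.quotEquivOfEq _ _ this).length_eq]
    exact length_quot_ne_top (K := K) hM hbspan
  let Ψq : (M ⧸ range j) →ₗ[A] (M ⧸ range j) := (range j).mapQ (range j) Ψ (by
    rintro _ ⟨x, rfl⟩; exact ⟨Q.mulVec x, DFunLike.congr_fun hcomm x⟩)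
  obtain ⟨_, h2⟩ := hasIndex_index_of_ladder (i₁ := Q.mulVecLin) (i₂ := Ψ) (i₃ := Ψq) hjinj
    (exact_map_mkQ_range j) (Submodule.mkQ_surjective _) hjinj (exact_map_mkQ_range j)
    (Submodule.mkQ_surjective _) hcomm (by ext x; rfl) (hasIndex_mulVecLin Q hQ0)
    (hasIndex_of_finite hfinq hfinq)
  rw [hcol, h2, index_mulVecLin Q hQ0, index_of_finite hfinq hfinq, sub_self, add_zero,
    ← hdet, ordFrac_algebraMap hQ0]

variable (K) in
theorem latDist_map {M : Submodule A V} (hM : M.FG) (hMs : Submodule.span K (M : Set V) = ⊤)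
    (φ : V ≃ₗ[K] V) :
    latDist M (M.map (φ.toLinearMap.restrictScalars A)) =
      CycAlg.ordFrac A K (LinearMap.det φ.toLinearMap) := by
  classical
  obtain ⟨s, hs, hsp, hli⟩ := exists_linearIndependent K (M : Set V)
  haveI : Finite s := hli.finite
  letI := Fintype.ofFinite s
  let b : Module.Basis s K V := Module.Basis.mk hli (by rw [Subtype.range_coe, hsp, hMs])
  have hb : ∀ i, b i ∈ M := fun i => by
    rw [Module.Basis.mk_apply]; exact hs i.2
  -- scalar c making φ integral on M and on the basis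
  have hFs : Submodule.span K ((Submodule.span A (Set.range b) : Submodule A V) : Set V) = ⊤ := by
    rw [Submodule.span_span_of_tower, b.span_eq]
  have hMφ : (M.map (φ.toLinearMap.restrictScalars A)).FG := hM.map _
  obtain ⟨c₁, hc₁, h₁⟩ := exists_smul_le (K := K) hMφ hMs
  obtain ⟨c₂, hc₂, h₂⟩ := exists_smul_le (K := K) (N := Submodule.span A (Set.range b))
    (Submodule.fg_span (Set.finite_range fun i => φ (b i))) hFs
  let c : A := c₁ * c₂
  have hc : c ≠ 0 := mul_ne_zero hc₁ hc₂
  have hcK : algebraMap A K c ≠ 0 := IsFractionRing.to_map_ne_zero_of_mem_nonZeroDivisors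
    (mem_nonZeroDivisors_iff_ne_zero.2 hc)
  let γ : V ≃ₗ[K] V := LinearEquiv.smulOfUnit (Units.mk0 _ hcK)
  have hγ : ∀ x, γ x = c • x := fun x => algebraMap_smul K c x
  let ψ : V ≃ₗ[K] V := φ.trans γ
  have hψ : ∀ x, ψ x = c • φ x := fun x => hγ _
  have hψM : ∀ x ∈ M, ψ x ∈ M := fun x hx => by
    rw [hψ, show c = c₂ * c₁ from mul_comm _ _, mul_smul]
    exact M.smul_mem c₂ (h₁ _ ⟨x, hx, rfl⟩)
  have hQ : ∀ k, ∃ q : s → A, ψ (b k) = ∑ i, q i • b i := fun k => by
    obtain ⟨q, hq⟩ := (Submodule.mem_span_range_iff_exists_fun A).1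
      (h₂ _ (Submodule.subset_span ⟨k, rfl⟩))
    exact ⟨fun i => c₁ * q i, by
      simp only [mul_smul, ← Finset.smul_sum, hq, hψ, c]⟩
  choose Q hQ using hQ
  have k1 := colen_map_eq_ord K hM hMs b hb ψ hψM (Matrix.of fun i k => Q k i) hQ
  let P : Matrix s s A := Matrix.diagonal fun _ => c
  have hP : ∀ k, γ (b k) = ∑ i, P i k • b i := fun k => by
    simp [P, hγ, Matrix.diagonal_apply]
  have k2 := colen_map_eq_ord K hM hMs b hb γ (fun x hx => by rw [hγ]; exact M.smul_mem c hx) P hP
  let Φ : V ≃ₗ[A] V := φ.restrictScalars A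
  have hΦ : Φ.toLinearMap = φ.toLinearMap.restrictScalars A := rfl
  have hmm : M.map (ψ.toLinearMap.restrictScalars A) =
      (M.map (γ.toLinearMap.restrictScalars A)).map Φ.toLinearMap := by
    rw [← Submodule.map_comp]
    congr 1
    ext x
    show ψ x = φ (γ x)
    rw [hψ, hγ, ← algebraMap_smul K c (φ x), ← map_smul, algebraMap_smul]
  have hle1 : M.map (ψ.toLinearMap.restrictScalars A) ≤ M := by
    rintro _ ⟨x, hx, rfl⟩; exact hψM x hx
  have hle2 : M.map (γ.toLinearMap.restrictScalars A) ≤ M := by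
    rintro _ ⟨x, hx, rfl⟩
    show γ x ∈ M
    rw [hγ]; exact M.smul_mem c hx
  have hspanψ : Submodule.span K ((M.map (ψ.toLinearMap.restrictScalars A) : Submodule A V) : Set V) = ⊤ := by
    rw [Submodule.map_coe, LinearMap.coe_restrictScalars, ← Submodule.map_span, hMs,
      Submodule.map_top, LinearEquiv.range]
  have hspanφ : Submodule.span K ((M.map (φ.toLinearMap.restrictScalars A) : Submodule A V) : Set V) = ⊤ := by
    rw [Submodule.map_coe, LinearMap.coe_restrictScalars, ← Submodule.map_span, hMs,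
      Submodule.map_top, LinearEquiv.range]
  have hadd := latDist_add K hM (hM.map (ψ.toLinearMap.restrictScalars A)) hMφ hMs hspanψ hspanφ
  rw [latDist_of_le hle1, latDist_of_ge (hmm ▸ Submodule.map_mono hle2 :
    M.map (ψ.toLinearMap.restrictScalars A) ≤ M.map (φ.toLinearMap.restrictScalars A)), k1] at hadd
  have k3 : colen (M.map (φ.toLinearMap.restrictScalars A)) (M.map (ψ.toLinearMap.restrictScalars A))
      = CycAlg.ordFrac A K (LinearMap.det γ.toLinearMap) := by
    rw [hmm, ← hΦ, colen_congr_equiv, k2]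
  have hd1 : LinearMap.det γ.toLinearMap ≠ 0 := (LinearEquiv.isUnit_det' γ).ne_zero
  have hd2 : LinearMap.det φ.toLinearMap ≠ 0 := (LinearEquiv.isUnit_det' φ).ne_zero
  rw [hadd, k3, show LinearMap.det ψ.toLinearMap =
      LinearMap.det γ.toLinearMap * LinearMap.det φ.toLinearMap from LinearMap.det_comp _ _,
    ordFrac_mul hd1 hd2]
  ring

end det

end Groth.Agent.LenLib
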