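import Groth.Agent.LenLib.Localized
import Groth.Agent.LenLib.OrdFrac
import Groth.Agent.S14503
import Mathlib.RingTheory.LocalRing.ResidueField.Basic
import Mathlib.Algebra.Module.LocalizedModule.AtPrime
import Mathlib.RingTheory.TensorProduct.Quotient
import Mathlib.LinearAlgebra.TensorProduct.Quotient
import Mathlib.Data.ENat.BigOperators

/-!
Lengths of finite length modules over a semi-local ring, restricted to a base ring, and the norm formula
for orders of vanishing.
-/

set_option autoImplicit false
set_option linter.style.haveILetI false
set_option maxHeartbeats 400000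

universe u

open TensorProduct

namespace Groth.Agent.LenLib

variable {R B : Type u} [CommRing R] [CommRing B] [Algebra R B]

/-- `len_R M = ∑_n len_R (B/n) · len_{B_n} M_n` for a `B`-module `M` of finite length. -/
theorem length_restrict_decomp {ι : Type*} [Fintype ι] (n : ι → Ideal B) [∀ i, (n i).IsMaximal]
    (hn : Function.Injective n) (hall : ∀ m : Ideal B, m.IsMaximal → ∃ i, n i = m)
    (M : Type u) [AddCommGroup M] [Module B M] [iR : Module R M] [iT : IsScalarTower R B M]
    (hM : IsFiniteLength B M) :
    Module.length R M = ∑ i, Module.length R (B ⧸ n i) *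
      Module.length (Localization.AtPrime (n i)) (LocalizedModule (n i).primeCompl M) := by
  classical
  revert iR iT
  induction hM with
  | @of_subsingleton M _ _ _ =>
    intro _ _
    rw [Module.length_eq_zero_iff.mpr inferInstance, Finset.sum_eq_zero fun i _ => ?_]
    haveI : Subsingleton (LocalizedModule (n i).primeCompl M) :=
      LocalizedModule.subsingleton_iff.mpr fun x => ⟨1, one_mem _, Subsingleton.elim _ _⟩
    rw [show Module.length (Localization.AtPrime (n i)) (LocalizedModule (n i).primeCompl M) = 0 from
      Module.length_eq_zero_iff.mpr inferInstance, mul_zero]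
  | @of_simple_quotient M _ _ N _ hN ih =>
    intro _ _
    obtain ⟨m, hm, ⟨e⟩⟩ := isSimpleModule_iff_quot_maximal.mp ‹IsSimpleModule B (M ⧸ N)›
    obtain ⟨j, rfl⟩ := hall m hm
    have hadd : Module.length R M = Module.length R N + Module.length R (M ⧸ N) :=
      Module.length_eq_add_of_exact (N.subtype.restrictScalars R) (N.mkQ.restrictScalars R)
        N.injective_subtype N.mkQ_surjective (LinearMap.exact_subtype_mkQ N)
    have h2 : ∀ i, Module.length (Localization.AtPrime (n i)) (LocalizedModule (n i).primeCompl M) =
        Module.length (Localization.AtPrime (n i)) (LocalizedModule (n i).primeCompl N) +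
          Module.length (Localization.AtPrime (n i)) (LocalizedModule (n i).primeCompl (M ⧸ N)) := fun i =>
      length_localized_add (n i).primeCompl N.subtype N.mkQ N.injective_subtype N.mkQ_surjective
        (LinearMap.exact_subtype_mkQ N)
    simp only [hadd, h2, mul_add, Finset.sum_add_distrib]
    rw [ih, (e.restrictScalars R).length_eq]
    congr 1
    rw [Finset.sum_eq_single j]
    · rw [show Module.length (Localization.AtPrime (n j)) (LocalizedModule (n j).primeCompl (M ⧸ N)) = 1 from
        length_localized_quotient_eq_one (n j) e, mul_one]
    · intro i _ hij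
      rw [show Module.length (Localization.AtPrime (n i)) (LocalizedModule (n i).primeCompl (M ⧸ N)) = 0 from
        length_localized_quotient_eq_zero (n i) (n j) e fun hle =>
          hij (hn ((Ideal.IsMaximal.eq_of_le hm (Ideal.IsPrime.ne_top inferInstance) hle).symm)), mul_zero]
    · exact fun h => absurd (Finset.mem_univ j) h

omit [CommRing R] [Algebra R B] in
/-- `(B/I)_p = B_p / I B_p` in length. -/
theorem length_localized_quotient (p : Ideal B) [p.IsPrime] (I : Ideal B) :
    Module.length (Localization.AtPrime p) (LocalizedModule p.primeCompl (B ⧸ I)) =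
      Module.length (Localization.AtPrime p)
        (Localization.AtPrime p ⧸ I.map (algebraMap B (Localization.AtPrime p))) :=
  ((LocalizedModule.equivTensorProduct p.primeCompl (B ⧸ I)) ≪≫ₗ
    (Algebra.TensorProduct.quotIdealMapEquivTensorQuot (Localization.AtPrime p) I).symm.toLinearEquiv).length_eq

/-- Lengths over a local ring of vector spaces over its residue field. -/
theorem length_eq_finrank_of_surjective {κ V : Type u} [Field κ] [Algebra R κ] [AddCommGroup V]
    [Module κ V] [Module R V] [IsScalarTower R κ V] [Module.Finite κ V]
    (h : Function.Surjective (algebraMap R κ)) : Module.length R V = (Module.finrank κ V : ℕ∞) := by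
  rw [Module.length_eq_of_surjective (R := κ) h, Module.length_eq_finrank]

theorem length_self_congr_ringEquiv {A A' : Type u} [CommRing A] [CommRing A'] (e : A ≃+* A') :
    Module.length A A = Module.length A' A' := by
  letI := e.toRingHom.toAlgebra
  rw [← Module.length_eq_of_surjective (R := A') (S := A) (M := A') e.surjective]
  exact (LinearEquiv.ofBijective (Algebra.linearMap A A') e.bijective).length_eq

variable [IsDomain R] [IsNoetherianRing R] [IsLocalRing R] [IsDomain B] [Module.Finite R B]

/-- Order of the norm = weighted sum of orders at the points above. -/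
theorem ordFrac_norm_eq (hR : ringKrullDim R = 1) (hinj : Function.Injective (algebraMap R B))
    (K L : Type u) [Field K] [Field L] [Algebra R K] [IsFractionRing R K] [Algebra B L]
    [IsFractionRing B L] [Algebra K L] [Algebra R L] [IsScalarTower R B L] [IsScalarTower R K L]
    [FiniteDimensional K L] {ι : Type*} [Fintype ι] (n : ι → Ideal B) [∀ i, (n i).IsMaximal]
    (hn : Function.Injective n) (hall : ∀ m : Ideal B, m.IsMaximal → ∃ i, n i = m)
    (S : ι → Type u) [∀ i, CommRing (S i)] [∀ i, Algebra B (S i)]
    [∀ i, IsLocalization.AtPrime (S i) (n i)] {b : B} (hb : b ≠ 0) :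
    CycAlg.ordFrac R K (Algebra.norm K (algebraMap B L b)) =
      ∑ i, ((Module.length R (B ⧸ n i)).toNat : ℤ) * ordZ (algebraMap B (S i) b) := by
  obtain ⟨hlt, hlen⟩ := S14503.result R hR B hinj K L b hb
  have hfin : IsFiniteLength B (B ⧸ Ideal.span {b}) := by
    rw [← Module.length_ne_top_iff]
    refine ne_top_of_le_ne_top hlt.ne ?_
    exact Order.krullDim_le_of_strictMono (fun P : Submodule B (B ⧸ Ideal.span {b}) => P.restrictScalars R)
      (Submodule.restrictScalarsEmbedding R B _).strictMono |> fun h => by
        rw [← WithBot.coe_le_coe, Module.coe_length, Module.coe_length]; exact h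
  rw [← hlen, length_restrict_decomp n hn hall _ hfin]
  have hterm : ∀ i, Module.length (Localization.AtPrime (n i))
      (LocalizedModule (n i).primeCompl (B ⧸ Ideal.span {b})) =
        Module.length (S i) (S i ⧸ Ideal.span {algebraMap B (S i) b}) := by
    intro i
    rw [length_localized_quotient, Ideal.map_span, Set.image_singleton]
    let e := IsLocalization.algEquiv (n i).primeCompl (Localization.AtPrime (n i)) (S i)
    have e1 : ∀ (A : Type u) [CommRing A] (I : Ideal A),
        Module.length A (A ⧸ I) = Module.length (A ⧸ I) (A ⧸ I) := fun A _ I =>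
      Module.length_eq_of_surjective Ideal.Quotient.mk_surjective
    rw [e1, e1]
    refine length_self_congr_ringEquiv (Ideal.quotientEquiv _ _ e.toRingEquiv ?_)
    rw [Ideal.map_span, Set.image_singleton]
    exact congrArg (fun c => Ideal.span {c}) (e.commutes b).symm
  have hne : ∀ i ∈ Finset.univ, Module.length R (B ⧸ n i) * Module.length (Localization.AtPrime (n i))
      (LocalizedModule (n i).primeCompl (B ⧸ Ideal.span {b})) ≠ ⊤ := fun i hi htop => by
    refine hlt.ne ?_
    rw [length_restrict_decomp n hn hall _ hfin]
    refine top_le_iff.1 (htop.ge.trans ?_)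
    exact Finset.single_le_sum (f := fun i => Module.length R (B ⧸ n i) * Module.length
      (Localization.AtPrime (n i)) (LocalizedModule (n i).primeCompl (B ⧸ Ideal.span {b})))
      (fun _ _ => zero_le) hi
  rw [ENat.toNat_sum hne, Nat.cast_sum]
  refine Finset.sum_congr rfl fun i _ => ?_
  rw [ENat.toNat_mul, Nat.cast_mul, hterm]
  rfl

end Groth.Agent.LenLib
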