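import Groth.Agent.LenLib.DomainDet
import Mathlib.RingTheory.Ideal.AssociatedPrime.Finiteness
import Mathlib.RingTheory.Ideal.Quotient.Basic
import Mathlib.RingTheory.Ideal.Quotient.Noetherian
import Mathlib.RingTheory.KrullDimension.Basic

/-!
The action of a matrix on `n → M`; its index equals the index of its determinant acting on `M`
(Noetherian ring of dimension ≤ 1, determinant outside the non-maximal primes).
-/

namespace Groth.Agent.LenLib

open Function LinearMap

universe u v

variable {A : Type u} [CommRing A] {n : Type*} [Fintype n]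

/-- action of a matrix on tuples in a module -/
def act (P : Matrix n n A) (M : Type v) [AddCommGroup M] [Module A M] : (n → M) →ₗ[A] (n → M) where
  toFun x i := ∑ j, P i j • x j
  map_add' x y := by ext i; simp [Finset.sum_add_distrib]
  map_smul' a x := by ext i; simp [Finset.smul_sum, smul_comm (P i _) a]

@[simp] theorem act_apply (P : Matrix n n A) (M : Type v) [AddCommGroup M] [Module A M] (x : n → M)
    (i : n) : act P M x i = ∑ j, P i j • x j := rfl

theorem act_self (P : Matrix n n A) : act P A = P.mulVecLin := by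
  ext x i; simp [Matrix.mulVec, dotProduct]

/-- multiplication by a scalar -/
abbrev smulEnd (a : A) (M : Type v) [AddCommGroup M] [Module A M] : M →ₗ[A] M :=
  LinearMap.lsmul A M a

section restrict

variable {B M N : Type*} [CommRing B] [Algebra A B] [AddCommGroup M] [Module A M] [Module B M]
  [IsScalarTower A B M] [AddCommGroup N] [Module A N] [Module B N] [IsScalarTower A B N]

theorem hasIndex_index_restrictScalars (h : Surjective (algebraMap A B)) (f : M →ₗ[B] N) :
    (HasIndex (f.restrictScalars A) ↔ HasIndex f) ∧ index (f.restrictScalars A) = index f := by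
  have h1 : Module.length A (ker (f.restrictScalars A)) = Module.length B (ker f) := by
    rw [show Module.length A (ker (f.restrictScalars A)) = Module.length A (ker f) from rfl]
    exact Module.length_eq_of_surjective h
  have h2 : Module.length A (N ⧸ range (f.restrictScalars A)) = Module.length B (N ⧸ range f) := by
    rw [(Submodule.quotEquivOfEq _ _ (LinearMap.range_restrictScalars f)).length_eq,
      ((Submodule.Quotient.restrictScalarsEquiv A (range f))).length_eq]
    exact Module.length_eq_of_surjective h
  constructor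
  · unfold HasIndex; rw [h1, h2]
  · simp only [index, lenZ, h1, h2]

end restrict

theorem lenZ_pi {R M : Type*} [CommRing R] [AddCommGroup M] [Module R M] :
    lenZ R (n → M) = Fintype.card n * lenZ R M := by
  simp [lenZ, ENat.toNat_mul]

theorem hasIndex_index_of_isField {k : Type*} [CommRing k] (hk : IsField k) {M : Type*}
    [AddCommGroup M] [Module k M] [Module.Finite k M] (f : M →ₗ[k] M) :
    HasIndex f ∧ index f = 0 := by
  letI := hk.toField
  haveI : IsArtinianRing k := inferInstance
  have hM : Module.length k M ≠ ⊤ := Module.length_ne_top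
  exact ⟨hasIndex_of_finite hM hM, by rw [index_of_finite hM hM, sub_self]⟩

variable [IsNoetherianRing A] [Ring.KrullDimLE 1 A] [DecidableEq n]

theorem index_act_aux (P : Matrix n n A) (hd : ∀ p : Ideal A, p.IsPrime → P.det ∈ p → p.IsMaximal)
    (M : Type v) [AddCommGroup M] [Module A M] (hM : Module.Finite A M) :
    HasIndex (act P M) ∧ HasIndex (smulEnd P.det M) ∧
      index (act P M) = index (smulEnd P.det M) := by
  induction hM using IsNoetherianRing.induction_on_isQuotientEquivQuotientPrime A with
  | subsingleton N =>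
    have b1 : Bijective (act P N) :=
      ⟨fun _ _ _ => Subsingleton.elim _ _, fun y => ⟨y, Subsingleton.elim _ _⟩⟩
    have b2 : Bijective (smulEnd P.det N) :=
      ⟨fun _ _ _ => Subsingleton.elim _ _, fun y => ⟨y, Subsingleton.elim _ _⟩⟩
    exact ⟨hasIndex_of_bijective b1, hasIndex_of_bijective b2,
      by rw [index_of_bijective b1, index_of_bijective b2]⟩
  | quotient N p e =>
    let q : A →+* A ⧸ p.1 := Ideal.Quotient.mk p.1
    have hs : Surjective (algebraMap A (A ⧸ p.1)) := Ideal.Quotient.mk_surjective
    let Pb : Matrix n n (A ⧸ p.1) := P.map q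
    have hdet : Pb.det = q P.det := (RingHom.map_det q P).symm
    let e' : (n → N) ≃ₗ[A] (n → A ⧸ p.1) := LinearEquiv.piCongrRight fun _ => e
    have c1 : ∀ x, e' (act P N x) = (Pb.mulVecLin.restrictScalars A) (e' x) := by
      intro x; ext i
      simp [e', Pb, q, Matrix.mulVec, dotProduct, Algebra.smul_def]
    have c2 : ∀ x, e (smulEnd P.det N x) =
        ((smulEnd Pb.det (A ⧸ p.1)).restrictScalars A) (e x) := by
      intro x
      simp [hdet, q, Algebra.smul_def]
    have key : HasIndex Pb.mulVecLin ∧ HasIndex (smulEnd Pb.det (A ⧸ p.1)) ∧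
        index Pb.mulVecLin = index (smulEnd Pb.det (A ⧸ p.1)) := by
      by_cases hdp : P.det ∈ p.1
      · have hF : IsField (A ⧸ p.1) :=
          Ideal.Quotient.maximal_ideal_iff_isField_quotient _ |>.1 (hd _ p.2 hdp)
        obtain ⟨a, b⟩ := hasIndex_index_of_isField hF Pb.mulVecLin
        obtain ⟨c, d⟩ := hasIndex_index_of_isField hF (smulEnd Pb.det (A ⧸ p.1))
        exact ⟨a, c, by rw [b, d]⟩
      · have hne : Pb.det ≠ 0 := by
          rw [hdet]; exact fun h => hdp (Ideal.Quotient.eq_zero_iff_mem.1 h)
        haveI : Ring.KrullDimLE 1 (A ⧸ p.1) := Ring.krullDimLE_iff.2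
          ((ringKrullDim_quotient_le p.1).trans (Ring.krullDimLE_iff.1 inferInstance))
        have hi : Injective (smulEnd Pb.det (A ⧸ p.1)) := mul_right_injective₀ hne
        have hk : Subsingleton (ker (smulEnd Pb.det (A ⧸ p.1))) := by
          rw [Submodule.subsingleton_iff_eq_bot]; exact ker_eq_bot.2 hi
        have hr : range (smulEnd Pb.det (A ⧸ p.1)) = Ideal.span {Pb.det} := by
          ext x
          rw [Ideal.mem_span_singleton']
          exact ⟨fun ⟨y, hy⟩ => ⟨y, by rw [← hy]; exact mul_comm _ _⟩,
            fun ⟨y, hy⟩ => ⟨y, by rw [← hy]; exact mul_comm _ _⟩⟩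
        refine ⟨hasIndex_mulVecLin Pb hne, ⟨by simp [Module.length_eq_zero], ?_⟩, ?_⟩
        · rw [(Submodule.quotEquivOfEq _ _ hr).length_eq]
          exact length_quot_span_ne_top hne
        · rw [index_mulVecLin Pb hne, index_of_injective hi, ordZ,
            lenZ_congr (Submodule.quotEquivOfEq _ _ hr)]
    obtain ⟨k1, k2, k3⟩ := key
    obtain ⟨a1, a2⟩ := hasIndex_index_restrictScalars hs Pb.mulVecLin
    obtain ⟨b1, b2⟩ := hasIndex_index_restrictScalars hs (smulEnd Pb.det (A ⧸ p.1))
    obtain ⟨f1, f2⟩ := hasIndex_index_congr (f := Pb.mulVecLin.restrictScalars A)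
      (f' := act P N) e'.symm e'.symm (fun x => e'.symm_apply_eq.2 (by rw [c1]; simp)) (a1.2 k1)
    obtain ⟨g1, g2⟩ := hasIndex_index_congr (f := (smulEnd Pb.det (A ⧸ p.1)).restrictScalars A)
      (f' := smulEnd P.det N) e.symm e.symm (fun x => e.symm_apply_eq.2 (by rw [c2]; simp))
      (b1.2 k2)
    exact ⟨f1, g1, by rw [f2, g2, a2, b2, k3]⟩
  | exact N₁ N₂ N₃ f g hf hg hfg h₁ h₃ =>
    obtain ⟨a₁, b₁, c₁⟩ := h₁
    obtain ⟨a₃, b₃, c₃⟩ := h₃
    let fp : (n → N₁) →ₗ[A] (n → N₂) := f.compLeft n
    let gp : (n → N₂) →ₗ[A] (n → N₃) := g.compLeft n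
    have hfp : Injective fp := fun x y h => funext fun i => hf (congr_fun h i)
    have hgp : Surjective gp := fun y =>
      ⟨fun i => surjInv hg (y i), funext fun i => surjInv_eq hg (y i)⟩
    have hexp : Exact fp gp := by
      intro x
      constructor
      · intro h
        choose c hc using fun i => (hfg (x i)).1 (congr_fun h i)
        exact ⟨c, funext hc⟩
      · rintro ⟨c, rfl⟩
        funext i
        exact hfg.apply_apply_eq_zero (c i)
    obtain ⟨p1, p2⟩ := hasIndex_index_of_ladder (i₁ := act P N₁) (i₂ := act P N₂) (i₃ := act P N₃)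
      hfp hexp hgp hfp hexp hgp
      (by apply LinearMap.ext; intro x; ext i; simp [fp])
      (by apply LinearMap.ext; intro x; ext i; simp [gp]) a₁ a₃
    obtain ⟨q1, q2⟩ := hasIndex_index_of_ladder (i₁ := smulEnd P.det N₁) (i₂ := smulEnd P.det N₂)
      (i₃ := smulEnd P.det N₃) hf hfg hg hf hfg hg
      (by apply LinearMap.ext; intro x; simp)
      (by apply LinearMap.ext; intro x; simp) b₁ b₃
    exact ⟨p1, q1, by rw [p2, q2, c₁, c₃]⟩

theorem index_act (P : Matrix n n A) (hd : ∀ p : Ideal A, p.IsPrime → P.det ∈ p → p.IsMaximal)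
    (M : Type v) [AddCommGroup M] [Module A M] [Module.Finite A M] :
    index (act P M) = index (smulEnd P.det M) :=
  (index_act_aux P hd M inferInstance).2.2

theorem hasIndex_act (P : Matrix n n A) (hd : ∀ p : Ideal A, p.IsPrime → P.det ∈ p → p.IsMaximal)
    (M : Type v) [AddCommGroup M] [Module A M] [Module.Finite A M] : HasIndex (act P M) :=
  (index_act_aux P hd M inferInstance).1

end Groth.Agent.LenLib
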