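import Groth.Agent.S6292
import Groth.Agent.LenLib.Localized

/-!
Samuel functions `t ↦ length (N / I^t N)` of finite modules over Noetherian local rings: exactness up to shift
(Artin–Rees) and the polynomial growth bound by the dimension of the support.
-/

namespace Groth.Agent.LenLib

open Function Filter Topology

universe u

variable {A : Type u} [CommRing A] (I : Ideal A)

/-- Samuel function. -/
noncomputable def samLen (N : Type u) [AddCommGroup N] [Module A N] (t : ℕ) : ℕ :=
  (Module.length A (N ⧸ (I ^ t • (⊤ : Submodule A N)))).toNat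

section exactness

variable {M' M M'' : Type u} [AddCommGroup M'] [Module A M'] [AddCommGroup M] [Module A M]
  [AddCommGroup M''] [Module A M''] {f : M' →ₗ[A] M} {g : M →ₗ[A] M''}

theorem length_quot_eq_add (hg : Surjective g) (hfg : LinearMap.range f = LinearMap.ker g)
    (X : Submodule A M) :
    Module.length A (M ⧸ X) =
      Module.length A (M' ⧸ X.comap f) + Module.length A (M'' ⧸ X.map g) := by
  refine Module.length_eq_add_of_exact ((X.comap f).mapQ X f le_rfl)
    (X.mapQ (X.map g) g (Submodule.le_comap_map g X)) ?_ ?_ ?_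
  · rw [← LinearMap.ker_eq_bot, LinearMap.ker_eq_bot']
    intro q hq
    obtain ⟨x, rfl⟩ := Submodule.mkQ_surjective _ q
    exact (Submodule.Quotient.mk_eq_zero _).2 ((Submodule.Quotient.mk_eq_zero _).1 hq :)
  · intro q
    obtain ⟨y, rfl⟩ := Submodule.mkQ_surjective _ q
    obtain ⟨x, rfl⟩ := hg y
    exact ⟨X.mkQ x, rfl⟩
  · intro q
    obtain ⟨x, rfl⟩ := Submodule.mkQ_surjective _ q
    constructor
    · intro h
      obtain ⟨z, hz, hzx⟩ := (Submodule.Quotient.mk_eq_zero (X.map g)).1 h
      have : x - z ∈ LinearMap.range f := by rw [hfg, LinearMap.mem_ker, map_sub, hzx, sub_self]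
      obtain ⟨w, hw⟩ := this
      refine ⟨(X.comap f).mkQ w, ?_⟩
      show X.mkQ (f w) = X.mkQ x
      rw [hw, map_sub, (Submodule.Quotient.mk_eq_zero X).2 hz |> fun h => (show X.mkQ z = 0 from h),
        sub_zero]
    · rintro ⟨w, hw⟩
      obtain ⟨w, rfl⟩ := Submodule.mkQ_surjective _ w
      rw [← hw]
      show Submodule.Quotient.mk (g (f w)) = (0 : M'' ⧸ X.map g)
      have : f w ∈ LinearMap.ker g := hfg ▸ LinearMap.mem_range_self f w
      rw [LinearMap.mem_ker.1 this, Submodule.Quotient.mk_zero]

theorem map_pow_smul_top (hg : Surjective g) (t : ℕ) :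
    (I ^ t • (⊤ : Submodule A M)).map g = I ^ t • ⊤ := by
  rw [Submodule.map_smul'', Submodule.map_top, LinearMap.range_eq_top.2 hg]

end exactness

theorem samLen_congr {N N' : Type u} [AddCommGroup N] [Module A N] [AddCommGroup N'] [Module A N']
    (e : N ≃ₗ[A] N') (t : ℕ) : samLen I N t = samLen I N' t := by
  unfold samLen
  congr 1
  exact (Submodule.Quotient.equiv _ _ e (map_pow_smul_top I e.surjective t)).length_eq

theorem samLen_of_subsingleton (N : Type u) [AddCommGroup N] [Module A N] [Subsingleton N] (t : ℕ) :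
    samLen I N t = 0 := by
  unfold samLen
  rw [Module.length_eq_zero]
  rfl

theorem samLen_zero (N : Type u) [AddCommGroup N] [Module A N] : samLen I N 0 = 0 := by
  unfold samLen
  haveI : Subsingleton (N ⧸ (I ^ 0 • (⊤ : Submodule A N))) := by
    rw [Submodule.Quotient.subsingleton_iff, pow_zero, Ideal.one_eq_top, Submodule.top_smul]
  rw [Module.length_eq_zero]
  rfl

variable [IsNoetherianRing A] [IsLocalRing A] {I}
  (hn : ∃ n : ℕ, IsLocalRing.maximalIdeal A ^ n ≤ I)

include hn in
theorem length_quot_pow_ne_top (N : Type u) [AddCommGroup N] [Module A N] [Module.Finite A N]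
    (X : Submodule A N) (t : ℕ) (hX : I ^ t • (⊤ : Submodule A N) ≤ X) :
    Module.length A (N ⧸ X) ≠ ⊤ := by
  obtain ⟨n, hn⟩ := hn
  refine Module.length_ne_top_iff.2 (Groth.Agent.S6292.result (IsLocalRing.maximalIdeal A)
    (IsNoetherian.noetherian _) _ (n * t) ?_)
  rw [pow_mul, eq_bot_iff, ← Submodule.range_mkQ X, ← Submodule.map_top, ← Submodule.map_smul'']
  calc Submodule.map X.mkQ ((IsLocalRing.maximalIdeal A ^ n) ^ t • ⊤)
      ≤ Submodule.map X.mkQ X :=
        Submodule.map_mono (le_trans (Submodule.smul_mono_left (Ideal.pow_right_mono hn t)) hX)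
    _ = ⊥ := by simp

section ses

variable {M' M M'' : Type u} [AddCommGroup M'] [Module A M'] [AddCommGroup M] [Module A M]
  [AddCommGroup M''] [Module A M''] [Module.Finite A M'] [Module.Finite A M] [Module.Finite A M'']
  {f : M' →ₗ[A] M} {g : M →ₗ[A] M''}

include hn in
theorem samLen_eq_add (hg : Surjective g) (hfg : LinearMap.range f = LinearMap.ker g) (t : ℕ) :
    samLen I M t = (Module.length A (M' ⧸ (I ^ t • (⊤ : Submodule A M)).comap f)).toNat +
      samLen I M'' t := by
  unfold samLen
  rw [length_quot_eq_add hg hfg, map_pow_smul_top I hg, ENat.toNat_add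
    (length_quot_pow_ne_top hn _ _ t (Submodule.smul_top_le_comap_smul_top _ f))
    (length_quot_pow_ne_top hn _ _ t le_rfl)]

include hn in
theorem toNat_length_comap_le (t : ℕ) :
    (Module.length A (M' ⧸ (I ^ t • (⊤ : Submodule A M)).comap f)).toNat ≤ samLen I M' t :=
  ENat.toNat_le_toNat (Module.length_le_of_surjective
    (Submodule.factor (Submodule.smul_top_le_comap_smul_top _ f)) (Submodule.factor_surjective _))
    (length_quot_pow_ne_top hn _ _ t le_rfl)

include hn in
theorem samLen_le_add (hg : Surjective g) (hfg : LinearMap.range f = LinearMap.ker g) (t : ℕ) :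
    samLen I M t ≤ samLen I M' t + samLen I M'' t := by
  have h1 := samLen_eq_add hn hg hfg t
  have h2 := toNat_length_comap_le hn (f := f) t
  omega

include hn in
theorem exists_shift_le (hf : Injective f) :
    ∃ c : ℕ, ∀ t, c ≤ t →
      samLen I M' (t - c) ≤ (Module.length A (M' ⧸ (I ^ t • (⊤ : Submodule A M)).comap f)).toNat := by
  obtain ⟨c, hc⟩ := Ideal.exists_pow_inf_eq_pow_smul I (LinearMap.range f)
  refine ⟨c, fun t ht => ?_⟩
  have hle : (I ^ t • (⊤ : Submodule A M)).comap f ≤ I ^ (t - c) • ⊤ := by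
    rw [← Submodule.comap_map_eq_of_injective hf (I ^ (t - c) • (⊤ : Submodule A M'))]
    intro x hx
    rw [Submodule.mem_comap, Submodule.map_smul'', Submodule.map_top]
    have : f x ∈ I ^ t • (⊤ : Submodule A M) ⊓ LinearMap.range f :=
      ⟨hx, LinearMap.mem_range_self f x⟩
    rw [hc t ht] at this
    exact Submodule.smul_mono le_rfl inf_le_right this
  exact ENat.toNat_le_toNat (Module.length_le_of_surjective (Submodule.factor hle)
    (Submodule.factor_surjective _))
    (length_quot_pow_ne_top hn _ _ t (Submodule.smul_top_le_comap_smul_top _ f))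

include hn in
theorem samuel_tendsto_add (hf : Injective f) (hg : Surjective g)
    (hfg : LinearMap.range f = LinearMap.ker g) (d : ℕ) {e' e'' : ℝ}
    (h' : Tendsto (fun t : ℕ => (d.factorial : ℝ) * (samLen I M' t : ℝ) / (t : ℝ) ^ d) atTop (𝓝 e'))
    (h'' : Tendsto (fun t : ℕ => (d.factorial : ℝ) * (samLen I M'' t : ℝ) / (t : ℝ) ^ d) atTop
      (𝓝 e'')) :
    Tendsto (fun t : ℕ => (d.factorial : ℝ) * (samLen I M t : ℝ) / (t : ℝ) ^ d) atTop
      (𝓝 (e' + e'')) := by
  obtain ⟨c, hc⟩ := exists_shift_le hn hf
  set X : ℕ → ℕ := fun t => (Module.length A (M' ⧸ (I ^ t • (⊤ : Submodule A M)).comap f)).toNat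
  have hrat : Tendsto (fun t : ℕ => (1 - (c : ℝ) / t) ^ d) atTop (𝓝 1) := by
    simpa using ((tendsto_const_nhds (x := (1 : ℝ))).sub
      (tendsto_const_div_atTop_nhds_zero_nat (c : ℝ))).pow d
  have hlow : Tendsto (fun t : ℕ => (d.factorial : ℝ) * (samLen I M' (t - c) : ℝ) / (t : ℝ) ^ d)
      atTop (𝓝 e') := by
    have := (h'.comp (tendsto_sub_atTop_nat c)).mul hrat
    rw [mul_one] at this
    refine this.congr' ?_
    filter_upwards [eventually_gt_atTop c] with t ht
    have h1 : (t : ℝ) ≠ 0 := by simp; omega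
    have h2 : ((t - c : ℕ) : ℝ) ≠ 0 := by simp; omega
    have h3 : (1 - (c : ℝ) / t) = ((t - c : ℕ) : ℝ) / t := by
      rw [Nat.cast_sub ht.le, sub_div, div_self h1]
    simp only [Function.comp_apply, h3, div_pow]
    field_simp
  have hX : Tendsto (fun t : ℕ => (d.factorial : ℝ) * (X t : ℝ) / (t : ℝ) ^ d) atTop (𝓝 e') := by
    refine tendsto_of_tendsto_of_tendsto_of_le_of_le' hlow h' ?_ (Eventually.of_forall fun t => ?_)
    · filter_upwards [eventually_ge_atTop c] with t ht
      gcongr
      exact hc t ht
    · gcongr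
      exact toNat_length_comap_le hn t
  refine (hX.add h'').congr fun t => ?_
  rw [samLen_eq_add hn hg hfg t]
  push_cast
  ring

end ses

theorem withBot_le_of_add_one_le {a : WithBot ℕ∞} {k : ℕ}
    (h : a + 1 ≤ ((k + 1 : ℕ) : WithBot ℕ∞)) : a ≤ (k : WithBot ℕ∞) := by
  induction a with
  | bot => exact bot_le
  | coe b =>
    have h' : b + 1 ≤ ((k + 1 : ℕ) : ℕ∞) := by
      rw [← WithBot.coe_le_coe]; exact_mod_cast h
    rw [Nat.cast_succ] at h'
    exact_mod_cast (ENat.add_le_add_iff_right ENat.one_ne_top).1 h'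

theorem ringKrullDim_quot_sup_succ_le (p : Ideal A) [p.IsPrime] {x : A} (hx : x ∉ p) :
    ringKrullDim (A ⧸ (p ⊔ Ideal.span {x})) + 1 ≤ ringKrullDim (A ⧸ p) := by
  refine ringKrullDim_succ_le_of_surjective (Ideal.Quotient.factor le_sup_left)
    (Ideal.Quotient.factor_surjective _) (r := Ideal.Quotient.mk p x) ?_ ?_
  · exact mem_nonZeroDivisors_of_ne_zero fun h => hx (Ideal.Quotient.eq_zero_iff_mem.1 h)
  · rw [Ideal.Quotient.factor_mk, Ideal.Quotient.eq_zero_iff_mem]
    exact Ideal.mem_sup_right (Ideal.mem_span_singleton_self x)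

include hn in
/-- Growth bound of the Samuel function by the dimension of the support. -/
theorem exists_samLen_le (hI : I ≤ IsLocalRing.maximalIdeal A) : ∀ (k : ℕ) (N : Type u)
    [AddCommGroup N] [Module A N] [Module.Finite A N], Module.supportDim A N ≤ k →
    ∃ C : ℕ, ∀ t, samLen I N t ≤ C * (t + 1) ^ k := by
  intro k
  induction k using Nat.strong_induction_on with
  | h k ih =>
    intro N _ _ hNf
    induction hNf using IsNoetherianRing.induction_on_isQuotientEquivQuotientPrime A with
    | subsingleton N => exact fun _ => ⟨0, fun t => by simp [samLen_of_subsingleton]⟩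
    | exact N₁ N₂ N₃ f g hf hg hfg h₁ h₃ =>
      intro hd
      obtain ⟨C₁, hC₁⟩ := h₁ ((Module.supportDim_le_of_injective f hf).trans hd)
      obtain ⟨C₃, hC₃⟩ := h₃ ((Module.supportDim_le_of_surjective g hg).trans hd)
      refine ⟨C₁ + C₃, fun t => ?_⟩
      rw [add_mul]
      exact (samLen_le_add hn hg (LinearMap.exact_iff.1 hfg).symm t).trans
        (Nat.add_le_add (hC₁ t) (hC₃ t))
    | quotient N p e =>
      intro hd
      rw [Module.supportDim_eq_of_equiv e, Module.supportDim_quotient_eq_ringKrullDim] at hd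
      simp only [samLen_congr I e]
      by_cases hp : IsLocalRing.maximalIdeal A ≤ p.asIdeal
      · refine ⟨1, fun t => le_trans (b := 1) ?_ (by rw [one_mul]; exact Nat.one_le_pow _ _ (by omega))⟩
        have : IsSimpleModule A (A ⧸ p.asIdeal) := by
          rw [isSimpleModule_iff_isCoatom, ← Ideal.isMaximal_def]
          rw [← le_antisymm hp (IsLocalRing.le_maximalIdeal p.2.ne_top)]
          exact IsLocalRing.maximalIdeal.isMaximal A
        unfold samLen
        refine (ENat.toNat_le_toNat ((Module.length_le_of_surjective _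
          (Submodule.mkQ_surjective _)).trans (Module.length_eq_one A (A ⧸ p.asIdeal)).le)
          ENat.one_ne_top).trans (le_of_eq rfl)
      · obtain ⟨n, hn'⟩ := hn
        obtain ⟨x, hxI, hxp⟩ := SetLike.not_le_iff_exists.1
          (fun h : I ≤ p.asIdeal => hp (Ideal.IsPrime.le_of_pow_le (hn'.trans h)))
        have hdim := ringKrullDim_quot_sup_succ_le p.asIdeal hxp
        have hQne : p.asIdeal ⊔ Ideal.span {x} ≠ ⊤ := fun h =>
          (IsLocalRing.maximalIdeal.isMaximal A).ne_top (eq_top_iff.2 (h ▸ sup_le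
            (IsLocalRing.le_maximalIdeal p.2.ne_top)
            ((Ideal.span_singleton_le_iff_mem _).2 (hI hxI))))
        haveI : Nontrivial (A ⧸ (p.asIdeal ⊔ Ideal.span {x})) :=
          Ideal.Quotient.nontrivial_iff.2 hQne
        obtain ⟨k', rfl⟩ : ∃ k', k = k' + 1 := by
          refine Nat.exists_eq_succ_of_ne_zero fun hk => ?_
          have h1 : (1 : WithBot ℕ∞) ≤ 0 := by
            refine le_trans ?_ (hdim.trans (hd.trans (le_of_eq (by rw [hk]; rfl))))
            exact le_add_of_nonneg_left ringKrullDim_nonneg_of_nontrivial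
          exact absurd h1 (by simp)
        obtain ⟨C, hC⟩ := ih k' (by omega) (A ⧸ (p.asIdeal ⊔ Ideal.span {x})) (by
          rw [Module.supportDim_quotient_eq_ringKrullDim]
          exact withBot_le_of_add_one_le (hdim.trans hd))
        refine ⟨C, fun t => ?_⟩
        let f : (A ⧸ p.asIdeal) →ₗ[A] (A ⧸ p.asIdeal) := LinearMap.lsmul A _ x
        let g : (A ⧸ p.asIdeal) →ₗ[A] (A ⧸ (p.asIdeal ⊔ Ideal.span {x})) :=
          Submodule.factor (le_sup_left : p.asIdeal ≤ _)
        have hg : Surjective g := Submodule.factor_surjective _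
        have hfg : LinearMap.range f = LinearMap.ker g := by
          ext q
          obtain ⟨a, rfl⟩ := Submodule.mkQ_surjective _ q
          constructor
          · rintro ⟨w, hw⟩
            obtain ⟨b, rfl⟩ := Submodule.mkQ_surjective _ w
            rw [LinearMap.mem_ker, ← hw]
            show g (x • Submodule.Quotient.mk b) = 0
            rw [map_smul]
            show Submodule.Quotient.mk (x • b) = 0
            rw [Submodule.Quotient.mk_eq_zero, smul_eq_mul]
            exact Ideal.mem_sup_right (Ideal.mem_span_singleton'.2 ⟨b, mul_comm _ _⟩)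
          · intro h
            obtain ⟨y, hy, z, hz, hyz⟩ := Submodule.mem_sup.1
              ((Submodule.Quotient.mk_eq_zero _).1 (LinearMap.mem_ker.1 h :))
            obtain ⟨b, rfl⟩ := Ideal.mem_span_singleton'.1 hz
            refine ⟨Submodule.mkQ _ b, ?_⟩
            replace hyz : y + b * x = a := hyz
            rw [LinearMap.lsmul_apply, Submodule.mkQ_apply, Submodule.mkQ_apply,
              ← Submodule.Quotient.mk_smul, Submodule.Quotient.eq, ← hyz, smul_eq_mul]
            have : x * b - (y + b * x) = -y := by ring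
            rw [this]
            exact neg_mem hy
        induction t with
        | zero => simp [samLen_zero]
        | succ t iht =>
          have hle : I ^ t • (⊤ : Submodule A (A ⧸ p.asIdeal)) ≤
              (I ^ (t + 1) • (⊤ : Submodule A (A ⧸ p.asIdeal))).comap f := by
            intro q hq
            rw [Submodule.mem_comap, LinearMap.lsmul_apply]
            rw [pow_succ', Submodule.mul_smul]
            exact Submodule.smul_mem_smul hxI hq
          have h1 := samLen_eq_add ⟨n, hn'⟩ (I := I) hg hfg (t + 1)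
          have h2 : (Module.length A ((A ⧸ p.asIdeal) ⧸
              (I ^ (t + 1) • (⊤ : Submodule A (A ⧸ p.asIdeal))).comap f)).toNat ≤
              samLen I (A ⧸ p.asIdeal) t :=
            ENat.toNat_le_toNat (Module.length_le_of_surjective (Submodule.factor hle)
              (Submodule.factor_surjective _)) (length_quot_pow_ne_top ⟨n, hn'⟩ _ _ t le_rfl)
          have h3 := hC (t + 1)
          have h4 : (t + 1) ^ k' ≤ (t + 1 + 1) ^ k' := Nat.pow_le_pow_left (by omega) _
          rw [h1, pow_succ (t + 1 + 1) k']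
          rw [pow_succ] at iht
          nlinarith [Nat.mul_le_mul_left (C * (t + 1)) h4]

end Groth.Agent.LenLib
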