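import Groth.Agent.LenLib.Matrix
import Mathlib.RingTheory.Artinian.Module
import Mathlib.RingTheory.Localization.Ideal
import Mathlib.RingTheory.Ideal.KrullsHeightTheorem

/-!
Length of the cokernel of a square matrix = order of its determinant, any Noetherian ring.
-/

namespace Groth.Agent.LenLib

open Function LinearMap Matrix

universe u

variable {A : Type u} [CommRing A] {n : Type*} [Fintype n] [DecidableEq n]

theorem isMaximal_of_det_mem [IsNoetherianRing A] (P : Matrix n n A)
    (h : Module.length A ((n → A) ⧸ range P.mulVecLin) ≠ ⊤)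
    (p : Ideal A) (hp : p.IsPrime) (hd : P.det ∈ p) : p.IsMaximal := by
  let C := (n → A) ⧸ range P.mulVecLin
  let φ : A →ₗ[A] (n → C) := LinearMap.pi fun j =>
    LinearMap.toSpanSingleton A C (Submodule.Quotient.mk (Pi.single j 1))
  have hker : ker φ ≤ p := by
    intro s hs
    by_contra hsp
    have : ∀ j, ∃ x, P *ᵥ x = s • (Pi.single j 1 : n → A) := fun j => by
      have := congr_fun (LinearMap.mem_ker.1 hs) j
      simp [φ, C, LinearMap.toSpanSingleton_apply, ← Submodule.Quotient.mk_smul,
        Submodule.Quotient.mk_eq_zero] at this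
      obtain ⟨x, hx⟩ := this
      exact ⟨x, by simpa using hx⟩
    choose x hx using this
    let X : Matrix n n A := Matrix.of fun i j => x j i
    have hPX : P * X = s • (1 : Matrix n n A) := by
      ext i j
      have := congr_fun (hx j) i
      simp [Matrix.mulVec, dotProduct, Pi.single_apply, Matrix.one_apply] at this ⊢
      simp [Matrix.mul_apply, X, this]
    have := congr_arg Matrix.det hPX
    rw [det_mul, det_smul, det_one, mul_one] at this
    exact hsp (hp.mem_of_pow_mem _ (this ▸ p.mul_mem_right _ hd))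
  have hfin : Module.length A (A ⧸ ker φ) ≠ ⊤ := by
    refine ne_top_of_le_ne_top (b := Module.length A (n → C)) ?_
      (Module.length_le_of_injective ((ker φ).liftQ φ le_rfl) ?_)
    · rw [Module.length_pi]
      exact WithTop.mul_ne_top (by rw [ENat.card_eq_coe_natCard]; exact ENat.natCast_ne_top _) h
    · rw [← LinearMap.ker_eq_bot]
      exact Submodule.ker_liftQ_eq_bot' _ _ rfl
  haveI : IsArtinian A (A ⧸ ker φ) :=
    ((isFiniteLength_iff_isNoetherian_isArtinian.1 (Module.length_ne_top_iff.1 hfin))).2
  haveI : IsArtinian A (A ⧸ p) :=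
    isArtinian_of_surjective _ (Submodule.factor hker) (Submodule.factor_surjective hker)
  haveI : IsArtinianRing (A ⧸ p) :=
    isArtinian_of_tower A inferInstance
  haveI := hp
  exact Ideal.Quotient.maximal_ideal_iff_isField_quotient p |>.2
    (IsArtinianRing.isField_of_isDomain (A ⧸ p))

theorem length_quot_span_ne_top_of_maximal [IsNoetherianRing A] (d : A)
    (hd : ∀ p : Ideal A, p.IsPrime → d ∈ p → p.IsMaximal) :
    Module.length A (A ⧸ Ideal.span {d}) ≠ ⊤ := by
  haveI : IsArtinianRing (A ⧸ Ideal.span {d}) := by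
    rw [isArtinianRing_iff_krullDimLE_zero]
    refine Ring.KrullDimLE.mk₀ fun I hI => ?_
    have hsur : Surjective (Ideal.Quotient.mk (Ideal.span {d})) := Ideal.Quotient.mk_surjective
    have hmax : (I.comap (Ideal.Quotient.mk (Ideal.span {d}))).IsMaximal :=
      hd _ inferInstance (Ideal.mem_comap.2 (by
        rw [Ideal.Quotient.eq_zero_iff_mem.2 (Ideal.mem_span_singleton_self d)]
        exact I.zero_mem))
    rcases Ideal.map_eq_top_or_isMaximal_of_surjective _ hsur hmax with h | h
    · rw [Ideal.map_comap_of_surjective _ hsur] at h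
      exact absurd h hI.ne_top
    · rwa [Ideal.map_comap_of_surjective _ hsur] at h
  rw [Module.length_eq_of_surjective (R := A ⧸ Ideal.span {d}) Ideal.Quotient.mk_surjective]
  exact Module.length_ne_top

section localization

variable (d : A)

/-- elements that are units modulo d -/
def unitsMod : Submonoid A := (IsUnit.submonoid (A ⧸ Ideal.span {d})).comap (Ideal.Quotient.mk _)

theorem exists_inv_of_mem {s : A} (hs : s ∈ unitsMod d) : ∃ u b, u * s = 1 + b * d := by
  obtain ⟨v, hv⟩ := (show IsUnit (Ideal.Quotient.mk (Ideal.span {d}) s) from hs).exists_left_inv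
  obtain ⟨u, rfl⟩ := Ideal.Quotient.mk_surjective v
  rw [← map_mul, ← map_one (Ideal.Quotient.mk (Ideal.span {d})),
    Ideal.Quotient.mk_eq_mk_iff_sub_mem, Ideal.mem_span_singleton'] at hv
  obtain ⟨b, hb⟩ := hv
  exact ⟨u, b, by rw [hb]; ring⟩

theorem mem_unitsMod_of_eq {s a : A} (h : s = 1 + a * d) : s ∈ unitsMod d := by
  show IsUnit (Ideal.Quotient.mk (Ideal.span {d}) s)
  rw [h, map_add, map_one, Ideal.Quotient.eq_zero_iff_mem.2
    (Ideal.mul_mem_left _ _ (Ideal.mem_span_singleton_self d)), add_zero]
  exact isUnit_one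

/-- dimension ≤ 1 after inverting the units mod d -/
theorem krullDimLE_localization [IsNoetherianRing A] (hd0 : d ∈ nonZeroDivisors A)
    (hd : ∀ p : Ideal A, p.IsPrime → d ∈ p → p.IsMaximal) :
    Ring.KrullDimLE 1 (Localization (unitsMod d)) := by
  let L := Localization (unitsMod d)
  refine Ring.KrullDimLE.mk₁ fun q hq => ?_
  by_contra hc
  obtain ⟨hq1, hq2⟩ := not_or.1 hc
  let p : Ideal A := q.comap (algebraMap A L)
  have hdisj := ((IsLocalization.isPrime_iff_isPrime_disjoint (unitsMod d) L q).1 hq).2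
  haveI : p.IsPrime := Ideal.comap_isPrime _ _
  have hm : ∃ m : Ideal A, m.IsMaximal ∧ p ≤ m ∧ d ∈ m := by
    by_cases h : p ⊔ Ideal.span {d} = ⊤
    · exfalso
      obtain ⟨x, hx, y, hy, hxy⟩ := Submodule.mem_sup.1 ((Ideal.eq_top_iff_one _).1 h)
      obtain ⟨c, rfl⟩ := Ideal.mem_span_singleton'.1 hy
      exact Set.disjoint_left.1 hdisj
        (mem_unitsMod_of_eq d (s := x) (a := -c) (by rw [← hxy]; ring)) hx
    · obtain ⟨m, hm, hle⟩ := Ideal.exists_le_maximal _ h
      exact ⟨m, hm, le_sup_left.trans hle,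
        hle (Ideal.mem_sup_right (Ideal.mem_span_singleton_self d))⟩
  obtain ⟨m, hm, hpm, hdm⟩ := hm
  have hmin : m ∈ (Ideal.span {d}).minimalPrimes :=
    ⟨⟨hm.isPrime, (Ideal.span_singleton_le_iff_mem _).2 hdm⟩, fun r hr hrm =>
      ((hd r hr.1 ((Ideal.span_singleton_le_iff_mem _).1 hr.2)).eq_of_le hm.ne_top hrm).ge⟩
  have hht : m.height ≤ 1 :=
    Ideal.height_le_one_of_isPrincipal_of_mem_minimalPrimes _ _ hmin
  haveI := hm.isPrime
  by_cases hpe : p = m
  · apply hq2
    refine ⟨⟨hq.ne_top, fun J hJ => ?_⟩⟩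
    by_contra hJt
    have hlt : p < J.comap (algebraMap A L) := by
      refine lt_of_le_of_ne (Ideal.comap_mono hJ.le) fun h => hJ.ne ?_
      rw [← IsLocalization.map_comap (unitsMod d) L q,
        ← IsLocalization.map_comap (unitsMod d) L J]
      exact congr_arg _ h
    have : J.comap (algebraMap A L) = ⊤ := hm.1.2 _ (hpe ▸ hlt)
    exact hJt (Ideal.comap_eq_top_iff.1 this)
  · have hlt : p < m := lt_of_le_of_ne hpm hpe
    apply hq1
    have hp0 : p ∈ minimalPrimes A := by
      rw [← Ideal.height_eq_zero_iff]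
      have : p.height < m.height := Ideal.height_strict_mono_of_isPrime hlt
      exact Order.lt_one_iff.1 (this.trans_le hht)
    refine ⟨⟨hq, bot_le⟩, fun r hr hrq => ?_⟩
    haveI := hr.1
    have h1 : r.comap (algebraMap A L) = p :=
      le_antisymm (Ideal.comap_mono hrq)
        (hp0.2 ⟨Ideal.comap_isPrime _ _, bot_le⟩ (Ideal.comap_mono hrq))
    rw [← IsLocalization.map_comap (unitsMod d) L q,
      ← IsLocalization.map_comap (unitsMod d) L r]
    exact (congr_arg (Ideal.map (algebraMap A L)) h1).ge

end localization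

theorem length_eq_of_smul_mem {B M : Type*} [CommRing B] [Algebra A B] [AddCommGroup M] [Module A M]
    [Module B M] [IsScalarTower A B M] (h : ∀ b : B, ∃ a : A, ∀ x : M, b • x = a • x) :
    Module.length A M = Module.length B M := by
  let e : Submodule B M ≃o Submodule A M :=
    { toFun := fun W => W.restrictScalars A
      invFun := fun W =>
        { carrier := W
          add_mem' := W.add_mem
          zero_mem' := W.zero_mem
          smul_mem' := fun b x hx => by
            obtain ⟨a, ha⟩ := h b
            rw [ha]; exact W.smul_mem a hx }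
      left_inv := fun W => rfl
      right_inv := fun W => rfl
      map_rel_iff' := Iff.rfl }
  rw [← WithBot.coe_inj, Module.coe_length, Module.coe_length]
  exact (Order.krullDim_eq_of_orderIso e).symm

theorem length_coker_localization (P : Matrix n n A) :
    Module.length A ((n → A) ⧸ range P.mulVecLin) =
      Module.length (Localization (unitsMod P.det))
        ((n → Localization (unitsMod P.det)) ⧸
          range (P.map (algebraMap A (Localization (unitsMod P.det)))).mulVecLin) := by
  let L := Localization (unitsMod P.det)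
  let f := algebraMap A L
  let Q := (P.map f).mulVecLin
  let φ : (n → A) →ₗ[A] (n → L) := (Algebra.linearMap A L).compLeft n
  have hφ : ∀ x, φ (P *ᵥ x) = (P.map f) *ᵥ φ x := by
    intro x; ext i
    exact RingHom.map_mulVec f P x i
  let Φ : ((n → A) ⧸ range P.mulVecLin) →ₗ[A] ((n → L) ⧸ range Q) :=
    (range P.mulVecLin).liftQ
      (((range Q).mkQ.restrictScalars A) ∘ₗ φ) (by
      rintro _ ⟨x, rfl⟩
      rw [LinearMap.mem_ker, LinearMap.comp_apply]
      exact (Submodule.Quotient.mk_eq_zero _).2 ⟨φ x, (hφ x).symm⟩)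
  have hdQ : ∀ y : n → L, f P.det • y ∈ range Q := fun y => by
    rw [RingHom.map_det]; exact det_smul_mem_range _ y
  have hdiv : ∀ b : L, ∃ a : A, ∀ y : (n → L) ⧸ range Q, b • y = a • y := by
    intro b
    obtain ⟨⟨c, s⟩, hs⟩ := IsLocalization.surj (unitsMod P.det) b
    obtain ⟨u, e, hu⟩ := exists_inv_of_mem P.det s.2
    refine ⟨u * c, fun y => ?_⟩
    obtain ⟨w, rfl⟩ := Submodule.mkQ_surjective _ y
    rw [Submodule.mkQ_apply, ← Submodule.Quotient.mk_smul, ← Submodule.Quotient.mk_smul,
      Submodule.Quotient.eq]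
    have : b • w - (u * c) • w = f P.det • ((-(f e * b)) • w) := by
      rw [← algebraMap_smul L (u * c) w, ← sub_smul, smul_smul]
      congr 1
      have h1 := congr_arg f hu
      simp only [map_mul, map_add, map_one, f] at h1 ⊢
      linear_combination f u * hs - b * h1
    rw [this]
    exact hdQ _
  have hsur : Surjective Φ := by
    intro y
    obtain ⟨w, rfl⟩ := Submodule.mkQ_surjective _ y
    obtain ⟨⟨b, hb⟩, hb'⟩ := IsLocalization.exist_integer_multiples_of_finite (unitsMod P.det) w
    choose x hx using hb'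
    obtain ⟨u, e, hu⟩ := exists_inv_of_mem P.det hb
    refine ⟨Submodule.Quotient.mk (u • x), ?_⟩
    simp only [Φ, Submodule.liftQ_apply, LinearMap.comp_apply, LinearMap.restrictScalars_apply]
    rw [Submodule.mkQ_apply, Submodule.mkQ_apply, Submodule.Quotient.eq]
    have hxw : φ x = b • w := funext hx
    have : φ (u • x) - w = f P.det • (f e • w) := by
      rw [map_smul, hxw, smul_smul, hu, add_smul, one_smul, add_sub_cancel_left, mul_comm,
        ← algebraMap_smul L (P.det * e) w, map_mul, smul_smul]
    rw [this]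
    exact hdQ _
  have hinj : Injective Φ := by
    rw [← LinearMap.ker_eq_bot, LinearMap.ker_eq_bot']
    intro q hq
    obtain ⟨x, rfl⟩ := Submodule.mkQ_surjective _ q
    obtain ⟨y, hy⟩ := (Submodule.Quotient.mk_eq_zero _).1 hq
    obtain ⟨⟨b, hb⟩, hb'⟩ := IsLocalization.exist_integer_multiples_of_finite (unitsMod P.det) y
    choose z hz using hb'
    have h1 : φ (b • x - P *ᵥ z) = 0 := by
      rw [map_sub, map_smul, hφ, show φ z = b • y from funext hz, Matrix.mulVec_smul]
      rw [show (P.map f) *ᵥ y = φ x from hy, sub_self]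
    have h2 : ∀ i, ∃ t : unitsMod P.det, (t : A) * (b • x - P *ᵥ z) i = 0 := fun i =>
      (IsLocalization.map_eq_zero_iff (unitsMod P.det) L _).1 (congr_fun h1 i)
    choose t ht using h2
    let T : unitsMod P.det := ∏ i, t i
    have hT : (T : A) • (b • x - P *ᵥ z) = 0 := funext fun i => by
      obtain ⟨k, hk⟩ := Finset.dvd_prod_of_mem t (Finset.mem_univ i)
      have hk' : T = t i * k := hk
      simp only [Pi.smul_apply, smul_eq_mul, Pi.zero_apply, hk', Submonoid.coe_mul]
      rw [mul_right_comm, ht i, zero_mul]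
    obtain ⟨u, e, hu⟩ := exists_inv_of_mem P.det (T * ⟨b, hb⟩).2
    rw [smul_sub, sub_eq_zero, smul_smul] at hT
    refine (Submodule.Quotient.mk_eq_zero _).2 ?_
    have hx : x = u • ((T * b : A) • x) - e • (P.det • x) := by
      rw [smul_smul, smul_smul, ← sub_smul, show u * (T * b : A) = 1 + e * P.det from hu,
        add_sub_cancel_right, one_smul]
    rw [hx, hT]
    exact Submodule.sub_mem _ (Submodule.smul_mem _ _ ⟨(T : A) • z, by simp [Matrix.mulVec_smul]⟩)
      (Submodule.smul_mem _ _ (det_smul_mem_range P x))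
  rw [(LinearEquiv.ofBijective Φ ⟨hinj, hsur⟩).length_eq]
  exact length_eq_of_smul_mem hdiv

theorem length_coker_eq_aux {L : Type u} [CommRing L] [IsNoetherianRing L] [Ring.KrullDimLE 1 L]
    {k : Type*} [Fintype k] [DecidableEq k] (Q : Matrix k k L) (d : L) (hQ : Q.det = d)
    (hd0 : d ∈ nonZeroDivisors L) (hd : ∀ q : Ideal L, q.IsPrime → d ∈ q → q.IsMaximal) :
    Module.length L ((k → L) ⧸ range Q.mulVecLin) = Module.length L (L ⧸ Ideal.span {d}) := by
  subst hQ
  have hi := index_act Q hd L
  have hh := hasIndex_act Q hd L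
  rw [act_self] at hi hh
  have hinj : Injective Q.mulVecLin := by
    rw [← LinearMap.ker_eq_bot, LinearMap.ker_eq_bot']
    intro x hx
    have h : (Q.adjugate * Q) *ᵥ x = 0 := by
      rw [← Matrix.mulVec_mulVec, show Q *ᵥ x = 0 from hx, Matrix.mulVec_zero]
    rw [Matrix.adjugate_mul, Matrix.smul_mulVec, Matrix.one_mulVec] at h
    funext i
    exact (mul_left_mem_nonZeroDivisors_eq_zero_iff hd0).1 (by simpa using congr_fun h i)
  have hinj' : Injective (smulEnd Q.det L) := fun x y h =>
    (mul_cancel_left_mem_nonZeroDivisors hd0).1 h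
  rw [index_of_injective hinj, index_of_injective hinj'] at hi
  have hr : range (smulEnd Q.det L) = Ideal.span {Q.det} := by
    ext x
    rw [Ideal.mem_span_singleton']
    exact ⟨fun ⟨y, hy⟩ => ⟨y, by rw [← hy]; exact mul_comm _ _⟩,
      fun ⟨y, hy⟩ => ⟨y, by rw [← hy]; exact mul_comm _ _⟩⟩
  rw [lenZ_congr (Submodule.quotEquivOfEq _ _ hr)] at hi
  unfold lenZ at hi
  rw [← ENat.natCast_toNat hh.2,
    ← ENat.natCast_toNat (length_quot_span_ne_top_of_maximal _ hd)]
  exact_mod_cast hi

theorem length_coker_eq_ord_det [IsNoetherianRing A] (P : Matrix n n A)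
    (hd0 : P.det ∈ nonZeroDivisors A) :
    Module.length A ((n → A) ⧸ range P.mulVecLin) = Module.length A (A ⧸ Ideal.span {P.det}) := by
  by_cases hd : ∀ p : Ideal A, p.IsPrime → P.det ∈ p → p.IsMaximal
  · let P₁ : Matrix (Fin 1) (Fin 1) A := Matrix.of fun _ _ => P.det
    have hdet₁ : P₁.det = P.det := by simp [P₁]
    have e₁ : Module.length A (A ⧸ Ideal.span {P.det}) =
        Module.length A ((Fin 1 → A) ⧸ range P₁.mulVecLin) := by
      refine (Submodule.Quotient.equiv (Ideal.span {P.det}) _
        (LinearEquiv.funUnique (Fin 1) A A).symm ?_).length_eq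
      ext x
      simp only [Submodule.mem_map, Ideal.mem_span_singleton', LinearMap.mem_range]
      constructor
      · rintro ⟨_, ⟨b, rfl⟩, rfl⟩
        exact ⟨fun _ => b, funext fun i => by simp [P₁, Matrix.mulVec, dotProduct, mul_comm]⟩
      · rintro ⟨y, rfl⟩
        exact ⟨_, ⟨y 0, rfl⟩, funext fun i => by simp [P₁, Matrix.mulVec, dotProduct, mul_comm]⟩
    have eP := length_coker_localization P
    have e1 := length_coker_localization P₁
    rw [hdet₁] at e1
    rw [e₁, eP, e1]
    let L := Localization (unitsMod P.det)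
    haveI : IsNoetherianRing L := IsLocalization.isNoetherianRing (unitsMod P.det) L inferInstance
    haveI := krullDimLE_localization P.det hd0 hd
    let f := algebraMap A L
    have hd0' : f P.det ∈ nonZeroDivisors L :=
      IsLocalization.map_nonZeroDivisors_le (unitsMod P.det) L ⟨_, hd0, rfl⟩
    have hdL : ∀ q : Ideal L, q.IsPrime → f P.det ∈ q → q.IsMaximal := by
      intro q hq hmem
      have hm := hd (q.comap f) (Ideal.comap_isPrime _ _) hmem
      refine ⟨⟨hq.ne_top, fun J hJ => ?_⟩⟩
      by_contra hJt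
      have hlt : q.comap f < J.comap f := by
        refine lt_of_le_of_ne (Ideal.comap_mono hJ.le) fun h => hJ.ne ?_
        rw [← IsLocalization.map_comap (unitsMod P.det) L q,
          ← IsLocalization.map_comap (unitsMod P.det) L J]
        exact congr_arg _ h
      exact hJt (Ideal.comap_eq_top_iff.1 (hm.1.2 _ hlt))
    have hQ : (P.map f).det = f P.det := (RingHom.map_det f P).symm
    have hQ₁ : (P₁.map f).det = f P.det := (RingHom.map_det f P₁).symm.trans (by rw [hdet₁])
    exact (length_coker_eq_aux (P.map f) _ hQ hd0' hdL).trans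
      (length_coker_eq_aux (P₁.map f) _ hQ₁ hd0' hdL).symm
  · have h1 : Module.length A ((n → A) ⧸ range P.mulVecLin) = ⊤ := by
      by_contra h
      exact hd (isMaximal_of_det_mem P h)
    have h2 : Module.length A (A ⧸ Ideal.span {P.det}) = ⊤ := by
      by_contra h
      exact (WithTop.mul_ne_top (ENat.natCast_ne_top _) h)
        (le_antisymm le_top (h1 ▸ length_coker_mulVecLin_le P))
    rw [h1, h2]

end Groth.Agent.LenLib
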